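import Groth.Agent.FProperLib.Closure
import Groth.Agent.FComplLib.Morph

/-!
# The filtration of a coherent module by the powers of the ideal of definition
-/

set_option autoImplicit false
set_option linter.style.haveILetI false
set_option linter.unusedSectionVars false
set_option backward.isDefEq.respectTransparency false
set_option backward.isDefEq.respectTransparency.types false
set_option maxHeartbeats 1000000

universe u

open CategoryTheory CategoryTheory.Limits AlgebraicGeometry TopologicalSpace Opposite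
open Groth.Agent.CohBase

noncomputable section

namespace Groth.Agent.FProper

open Groth.Agent.FCompl

variable {𝔛 : FSch.Sys.{u}} {h : 𝔛.IsFormal} (𝔉 : FSch.ModF 𝔛 h)

/-- The quotient by a power of the ideal. -/
def lvl (k : ℕ) : FSch.ModF 𝔛 h := (FSch.levelMor 𝔛 h k).push.obj ((FSch.levelMor 𝔛 h k).pull.obj 𝔉)

/-- The quotient map. -/
def prj (k : ℕ) : 𝔉 ⟶ lvl 𝔉 k := (FSch.levelMor 𝔛 h k).adj.unit.app 𝔉

/-- The quotient map, shifted by one. -/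
def prj' : ∀ k : ℕ, 𝔉 ⟶ lvl 𝔉 (k - 1)
  | 0 => 0
  | k + 1 => prj 𝔉 k

/-- The filtration. -/
def Fl (k : ℕ) : FSch.ModF 𝔛 h := kernel (prj' 𝔉 k)

/-- The inclusion of a step of the filtration. -/
def flι (k : ℕ) : Fl 𝔉 k ⟶ 𝔉 := kernel.ι (prj' 𝔉 k)

instance mono_flι (k : ℕ) : Mono (flι 𝔉 k) := inferInstanceAs (Mono (kernel.ι _))

lemma flι_prj' (k : ℕ) : flι 𝔉 k ≫ prj' 𝔉 k = 0 := kernel.condition _

variable {𝔉}

lemma prj_eq_zero_of_succ {V : (𝔛.X 0).Opens} {k : ℕ} {s : 𝔉.val.obj (op V)}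
    (hs : ((prj 𝔉 (k + 1)).val.app (op V)).hom s = 0) : ((prj 𝔉 k).val.app (op V)).hom s = 0 := by
  have e := congrArg (fun g : 𝔉 ⟶ lvl 𝔉 k => (g.val.app (op V)).hom s) (FSch.unit_levelTrans 𝔛 h 𝔉 k)
  refine e.symm.trans ?_
  show ((FSch.levelTrans 𝔛 h 𝔉 k).val.app (op V)).hom (((prj 𝔉 (k + 1)).val.app (op V)).hom s) = 0
  rw [hs]
  exact map_zero _

lemma prj'_eq_zero_of_succ {V : (𝔛.X 0).Opens} :
    ∀ {k : ℕ} {s : 𝔉.val.obj (op V)}, ((prj' 𝔉 (k + 1)).val.app (op V)).hom s = 0 →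
      ((prj' 𝔉 k).val.app (op V)).hom s = 0
  | 0, _, _ => rfl
  | _ + 1, _, hs => prj_eq_zero_of_succ hs

lemma prj'_eq_zero_of_le {V : (𝔛.X 0).Opens} {j k : ℕ} (hjk : j ≤ k) {s : 𝔉.val.obj (op V)}
    (hs : ((prj' 𝔉 k).val.app (op V)).hom s = 0) : ((prj' 𝔉 j).val.app (op V)).hom s = 0 := by
  induction k, hjk using Nat.le_induction with
  | base => exact hs
  | succ k _ ih => exact ih (prj'_eq_zero_of_succ hs)

/-- A map into a module vanishing on affine opens vanishes. -/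
lemma hom_eq_zero_of_affine {M N : FSch.ModF 𝔛 h} (g : M ⟶ N)
    (H : ∀ U : (𝔛.X 0).Opens, IsAffineOpen U → ∀ s, (g.val.app (op U)).hom s = 0) : g = 0 := by
  ext W s
  refine eq_zero_of_affine N _ fun Z hZ hZa => ?_
  refine (FPLocal.app_mres g (homOfLE hZ) s).symm.trans ?_
  exact H Z hZa _

variable (𝔉)

lemma flι_prj'_succ (k : ℕ) : flι 𝔉 (k + 1) ≫ prj' 𝔉 k = 0 :=
  hom_eq_zero_of_affine _ fun _ _ s => prj'_eq_zero_of_succ
    (congrArg (fun g : Fl 𝔉 (k + 1) ⟶ lvl 𝔉 k => (g.val.app _).hom s) (flι_prj' 𝔉 (k + 1)))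

/-- The inclusion of consecutive steps. -/
def incl (k : ℕ) : Fl 𝔉 (k + 1) ⟶ Fl 𝔉 k := kernel.lift _ (flι 𝔉 (k + 1)) (flι_prj'_succ 𝔉 k)

lemma incl_flι (k : ℕ) : incl 𝔉 k ≫ flι 𝔉 k = flι 𝔉 (k + 1) := kernel.lift_ι _ _ _

instance mono_incl (k : ℕ) : Mono (incl 𝔉 k) := by
  haveI : Mono (incl 𝔉 k ≫ flι 𝔉 k) := by rw [incl_flι]; infer_instance
  exact mono_of_mono (incl 𝔉 k) (flι 𝔉 k)

/-- The graded pieces. -/
def Gr (k : ℕ) : FSch.ModF 𝔛 h := cokernel (incl 𝔉 k)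

/-- The projection to a graded piece. -/
def grπ (k : ℕ) : Fl 𝔉 k ⟶ Gr 𝔉 k := cokernel.π (incl 𝔉 k)

/-- The sequence defining a graded piece. -/
def grSeq (k : ℕ) : ShortComplex (FSch.ModF 𝔛 h) :=
  ShortComplex.mk (incl 𝔉 k) (grπ 𝔉 k) (cokernel.condition _)

lemma grSeq_shortExact (k : ℕ) : (grSeq 𝔉 k).ShortExact :=
  ShortComplex.ShortExact.mk' (ShortComplex.exact_of_g_is_cokernel _ (cokernelIsCokernel _))
    (mono_incl 𝔉 k) (inferInstanceAs (Epi (cokernel.π _)))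

variable {𝔉} (hL : 𝔛.IsLocNoethFormal) (h𝔉 : FSch.IsCohF 𝔛 h 𝔉)

include hL h𝔉

lemma coh_lvl (k : ℕ) : FSch.IsCohF 𝔛 h (lvl 𝔉 k) := by
  obtain ⟨h1, h2⟩ := sysOf_isCoh 𝔉 h𝔉 k
  haveI : Coh.IsQCoh ((FSch.levelMor 𝔛 h k).pull.obj 𝔉) := h1
  haveI : SheafOfModules.IsFiniteType.{u} (R := (𝔛.X k).ringCatSheaf) ((FSch.levelMor 𝔛 h k).pull.obj 𝔉) := h2
  exact isCohF_levelPush hL k _

lemma coh_Fl (k : ℕ) : FSch.IsCohF 𝔛 h (Fl 𝔉 k) := coh_kernel hL _ h𝔉 (coh_lvl hL h𝔉 _)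

lemma coh_Gr (k : ℕ) : FSch.IsCohF 𝔛 h (Gr 𝔉 k) :=
  coh_cokernel hL _ (coh_Fl hL h𝔉 _) (coh_Fl hL h𝔉 _)

lemma prj_surjective {U : (𝔛.X 0).Opens} (hU : IsAffineOpen U) (k : ℕ) :
    Function.Surjective ((prj 𝔉 k).val.app (op U)).hom := fun x => by
  obtain ⟨z, hz⟩ := (((mod_main (h := h) (sysOf 𝔉) hL (sysOf_isCoh 𝔉 h𝔉) hU).2 k)).1 x
  obtain ⟨m, rfl⟩ := (eps_app_bijective hL h𝔉 U).2 z
  exact ⟨m, (pm_eps 𝔉 k U m).symm.trans hz⟩

/-- Sections of the filtration on affine opens. -/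
lemma prj'_eq_zero_iff {U : (𝔛.X 0).Opens} (hU : IsAffineOpen U) : ∀ (k : ℕ) (m : 𝔉.val.obj (op U)),
    ((prj' 𝔉 k).val.app (op U)).hom m = 0 ↔
      m ∈ II 𝔛 h U ^ k • (⊤ : Submodule (OR 𝔛 h U) (𝔉.val.obj (op U)))
  | 0, m => by
    rw [pow_zero, Ideal.one_eq_top, Submodule.top_smul]
    exact ⟨fun _ => trivial, fun _ => rfl⟩
  | k + 1, m => by
    let e : 𝔉.val.obj (op U) ≃ₗ[OR 𝔛 h U] OM h (sysOf 𝔉) U :=
      LinearEquiv.ofBijective ((eps 𝔉).val.app (op U)).hom (eps_app_bijective hL h𝔉 U)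
    have h1 : ((prj 𝔉 k).val.app (op U)).hom m = pm h (sysOf 𝔉) U k (e m) := (pm_eps 𝔉 k U m).symm
    show ((prj 𝔉 k).val.app (op U)).hom m = 0 ↔ _
    rw [h1]
    refine (((mod_main (h := h) (sysOf 𝔉) hL (sysOf_isCoh 𝔉 h𝔉) hU).2 k).2 (e m)).trans ?_
    have h2 : (II 𝔛 h U ^ (k + 1) • (⊤ : Submodule (OR 𝔛 h U) (𝔉.val.obj (op U)))).map e.toLinearMap =
        II 𝔛 h U ^ (k + 1) • ⊤ := by
      rw [Submodule.map_smul'', Submodule.map_top, LinearEquiv.range]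
    constructor
    · intro hm
      obtain ⟨m', hm', he⟩ := Submodule.mem_map.1 (h2.symm ▸ hm :
        e m ∈ (II 𝔛 h U ^ (k + 1) • (⊤ : Submodule (OR 𝔛 h U) (𝔉.val.obj (op U)))).map e.toLinearMap)
      exact e.injective he ▸ hm'
    · exact fun hm => h2 ▸ Submodule.mem_map_of_mem hm

lemma exists_flι_eq {V : (𝔛.X 0).Opens} (k : ℕ) {m : 𝔉.val.obj (op V)}
    (hm : ((prj' 𝔉 k).val.app (op V)).hom m = 0) : ∃ y, ((flι 𝔉 k).val.app (op V)).hom y = m :=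
  FPLocal.exists_kernel_preimage (prj' 𝔉 k) m hm

/-- Sections with prescribed images exist. -/
lemma exists_of_compatible {V : (𝔛.X 0).Opens} (b : ℕ → 𝔉.val.obj (op V))
    (hb : ∀ n, ((prj' 𝔉 n).val.app (op V)).hom (b n) = 0) :
    ∃ s, ∀ n, ((prj' 𝔉 n).val.app (op V)).hom (s - ∑ l ∈ Finset.range n, b l) = 0 := by
  let σ : ℕ → 𝔉.val.obj (op V) := fun k => ∑ l ∈ Finset.range (k + 1), b l
  let y : ∀ k, LM h (sysOf 𝔉) V k := fun k => pm h (sysOf 𝔉) V k (((eps 𝔉).val.app (op V)).hom (σ k))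
  obtain ⟨z, hz, -⟩ := om_existsUnique (sysOf 𝔉) y fun k => by
    show tm h (sysOf 𝔉) V k (pm h (sysOf 𝔉) V (k + 1) (((eps 𝔉).val.app (op V)).hom (σ (k + 1)))) = y k
    rw [tm_pm, show σ (k + 1) = σ k + b (k + 1) from Finset.sum_range_succ _ _, map_add, map_add, add_eq_left,
      pm_eps]
    exact hb (k + 1)
  obtain ⟨s, rfl⟩ := (eps_app_bijective hL h𝔉 V).2 z
  refine ⟨s, fun n => ?_⟩
  cases n with
  | zero => rfl
  | succ k =>
    show ((prj 𝔉 k).val.app (op V)).hom (s - σ k) = 0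
    rw [map_sub, sub_eq_zero]
    exact (pm_eps 𝔉 k V s).symm.trans ((hz k).trans (pm_eps 𝔉 k V (σ k)))

/-- The filtration is separated. -/
lemma eq_zero_of_prj {V : (𝔛.X 0).Opens} {z : 𝔉.val.obj (op V)}
    (hz : ∀ k, ((prj' 𝔉 k).val.app (op V)).hom z = 0) : z = 0 := by
  refine (eps_app_bijective hL h𝔉 V).1 ((om_ext (sysOf 𝔉) (y := 0) fun k => ?_).trans (map_zero _).symm)
  rw [map_zero]
  exact (pm_eps 𝔉 k V z).trans (hz (k + 1))

omit h𝔉 in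
/-- Epimorphisms of coherent modules are surjective on affine opens. -/
lemma surjective_of_shortExact {S : ShortComplex (FSch.ModF 𝔛 h)} (hS : S.ShortExact)
    (h1 : FSch.IsCohF 𝔛 h S.X₁) {U : (𝔛.X 0).Opens} (hU : IsAffineOpen U) :
    Function.Surjective (S.g.val.app (op U)).hom := by
  haveI : Subsingleton (HU U (S.map (SheafOfModules.toSheaf (ModSite.ringSh (𝔛.Osh h)))).X₁ 1) :=
    subsingleton_HU_of_affQC hL (affQC_of_coh hL h1) hU 0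
  exact sections_surjective (toSheaf_SE hS) U

end Groth.Agent.FProper
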