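import Groth.Agent.FProperLib.GradedNoeth

/-!
# Cycles deep in a complete filtered complex are multiples of less deep ones
-/

set_option autoImplicit false
set_option linter.unusedSectionVars false

universe u

namespace Groth.Agent.FProper

variable {A : Type u} [CommRing A] [IsNoetherianRing A] {P C D : Type u} [AddCommGroup P] [AddCommGroup C]
  [AddCommGroup D] [Module A P] [Module A C] [Module A D] (d : P →ₗ[A] C) (e : C →ₗ[A] D)
  (FP : ℕ → Submodule A P) (FC : ℕ → Submodule A C) (FD : ℕ → Submodule A D)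
  {σ : Type} [Fintype σ] (a : σ → A) {H : ℕ → Type u} [∀ k, AddCommGroup (H k)] [∀ k, Module A (H k)]
  [∀ k, Module.Finite A (H k)] (f : σ → ∀ k, H k →ₗ[A] H (k + 1))
  (hcomm : ∀ (i j : σ) k (x : H k), f i (k + 1) (f j k x) = f j (k + 1) (f i k x)) (hgen : Gen f)
  (hed : ∀ b, e (d b) = 0) (hd : ∀ k, ∀ b ∈ FP k, d b ∈ FC k) (he : ∀ k, ∀ z ∈ FC k, e z ∈ FD k)
  (hPanti : Antitone FP) (hCanti : Antitone FC)
  (haC : ∀ j k, ∀ z ∈ FC k, a j • z ∈ FC (k + 1))
  (cl : ∀ k, ↥(FC k ⊓ (FD (k + 1)).comap e) →ₗ[A] H k)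
  (hcl : ∀ k z, cl k z = 0 → ∃ b ∈ FP k, z.1 - d b ∈ FC (k + 1))
  (hclf : ∀ j k (z : ↥(FC k ⊓ (FD (k + 1)).comap e)) (w : ↥(FC (k + 1) ⊓ (FD (k + 1 + 1)).comap e)),
    w.1 = a j • z.1 → f j k (cl k z) = cl (k + 1) w)
  (hsumP : ∀ b : ℕ → P, (∀ n, b n ∈ FP n) → ∃ s, ∀ n, s - ∑ l ∈ Finset.range n, b l ∈ FP n)
  (hsumC : ∀ b : ℕ → C, (∀ n, b n ∈ FC n) → ∃ s, ∀ n, s - ∑ l ∈ Finset.range n, b l ∈ FC n)
  (hsepC : ∀ z, (∀ k, z ∈ FC k) → z = 0) (hsepD : ∀ z, (∀ k, z ∈ FD k) → z = 0)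

include hcomm hgen hed hd he hPanti hCanti haC hcl hclf hsumP hsumC hsepC hsepD

/-- Deep cycles are combinations of less deep cycles up to boundaries. -/
theorem exists_good : ∃ N, ∀ k, N ≤ k → ∀ z ∈ FC (k + 1), e z = 0 →
    ∃ w : σ → C, (∀ j, w j ∈ FC k ∧ e (w j) = 0) ∧ ∃ b, z - ∑ j, a j • w j = d b := by
  classical
  let ι : ∀ k, ↥(FC k ⊓ LinearMap.ker e) →ₗ[A] ↥(FC k ⊓ (FD (k + 1)).comap e) := fun k =>
    Submodule.inclusion (inf_le_inf_left _ fun x hx => by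
      show e x ∈ FD (k + 1); rw [LinearMap.mem_ker.1 hx]; exact zero_mem _)
  let S : ∀ k, Submodule A (H k) := fun k => LinearMap.range ((cl k).comp (ι k))
  obtain ⟨N, hN⟩ := stable_gen f hcomm hgen S (fun j k x hx => by
    obtain ⟨z, rfl⟩ := hx
    refine ⟨⟨a j • z.1, haC j k _ z.2.1, ?_⟩, (hclf j k (ι k z) _ rfl).symm⟩
    show e (a j • z.1) = 0
    rw [map_smul, LinearMap.mem_ker.1 z.2.2, smul_zero])
  have step : ∀ k, N ≤ k → ∀ z ∈ FC (k + 1), e z = 0 →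
      ∃ w : σ → C, (∀ j, w j ∈ FC k ∧ e (w j) = 0) ∧
        ∃ b ∈ FP (k + 1), z - ∑ j, a j • w j - d b ∈ FC (k + 1 + 1) := by
    intro k hk z hz hez
    let z₀ : ↥(FC (k + 1) ⊓ LinearMap.ker e) := ⟨z, hz, hez⟩
    obtain ⟨u, hu, hsum⟩ : ∃ u : σ → H k, (∀ j, u j ∈ S k) ∧ ∑ j, f j k (u j) = cl (k + 1) (ι (k + 1) z₀) := by
      have hx : cl (k + 1) (ι (k + 1) z₀) ∈ ⨆ j, (S k).map (f j k) := hN k hk ⟨z₀, rfl⟩
      obtain ⟨g, hg⟩ := (Submodule.mem_iSup_iff_exists_finsupp _ _).1 hx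
      choose u hu hu' using fun j => Submodule.mem_map.1 (hg.1 j)
      refine ⟨u, hu, ?_⟩
      rw [← hg.2, Finsupp.sum_fintype _ _ fun _ => rfl]
      exact Finset.sum_congr rfl fun j _ => hu' j
    choose w hw using hu
    refine ⟨fun j => (w j).1, fun j => ⟨(w j).2.1, (w j).2.2⟩, ?_⟩
    let a' : σ → ↥(FC (k + 1) ⊓ LinearMap.ker e) := fun j => ⟨a j • (w j).1, haC j k _ (w j).2.1, by
      show e (a j • (w j).1) = 0
      rw [map_smul, LinearMap.mem_ker.1 (w j).2.2, smul_zero]⟩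
    have h0 : cl (k + 1) (ι (k + 1) (z₀ - ∑ j, a' j)) = 0 := by
      rw [map_sub, map_sum, map_sub, map_sum, ← hsum, sub_eq_zero]
      refine Finset.sum_congr rfl fun j _ => ?_
      rw [← hw j]
      exact hclf j k (ι k (w j)) (ι (k + 1) (a' j)) rfl
    obtain ⟨b, hb, hb'⟩ := hcl (k + 1) _ h0
    refine ⟨b, hb, ?_⟩
    simpa [ι, z₀, a'] using hb'
  choose g hg gb hgb hg' using step
  refine ⟨N, fun k hk z hz hez => ?_⟩
  let seq : ∀ n, {x : C // x ∈ FC (k + n + 1) ∧ e x = 0} := fun n =>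
    Nat.rec (motive := fun n => {x : C // x ∈ FC (k + n + 1) ∧ e x = 0}) ⟨z, hz, hez⟩
      (fun n x => ⟨x.1 - ∑ j, a j • g (k + n) (le_trans hk (Nat.le_add_right k n)) x.1 x.2.1 x.2.2 j - d (gb (k + n) (le_trans hk (Nat.le_add_right k n)) x.1 x.2.1 x.2.2),
        hg' (k + n) (le_trans hk (Nat.le_add_right k n)) x.1 x.2.1 x.2.2, by
          rw [map_sub, map_sub, hed, sub_zero, map_sum, Finset.sum_eq_zero fun j _ => by
            rw [map_smul, (hg (k + n) (le_trans hk (Nat.le_add_right k n)) x.1 x.2.1 x.2.2 j).2, smul_zero], sub_zero]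
          exact x.2.2⟩) n
  let βC : σ → ℕ → C := fun j n => g (k + n) (le_trans hk (Nat.le_add_right k n)) (seq n).1 (seq n).2.1 (seq n).2.2 j
  let βP : ℕ → P := fun n => gb (k + n) (le_trans hk (Nat.le_add_right k n)) (seq n).1 (seq n).2.1 (seq n).2.2
  have hβC : ∀ j n, βC j n ∈ FC (k + n) := fun j n => (hg (k + n) (le_trans hk (Nat.le_add_right k n)) _ _ _ j).1
  have hβP : ∀ n, βP n ∈ FP (k + n + 1) := fun n => hgb (k + n) (le_trans hk (Nat.le_add_right k n)) _ _ _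
  choose s hs using fun j => hsumC (βC j) fun n => hCanti (Nat.le_add_left n k) (hβC j n)
  obtain ⟨t, ht⟩ := hsumP βP fun n => hPanti (by omega) (hβP n)
  refine ⟨s, fun j => ⟨?_, ?_⟩, t, ?_⟩
  · have h1 := hs j k
    have h2 : ∑ l ∈ Finset.range k, βC j l ∈ FC k :=
      sum_mem fun l _ => hCanti (Nat.le_add_right k l) (hβC j l)
    simpa using add_mem h1 h2
  · refine hsepD _ fun n => ?_
    have h1 := he n _ (hs j n)
    rwa [map_sub, map_sum, Finset.sum_eq_zero fun l _ => (hg (k + l) (le_trans hk (Nat.le_add_right k l)) _ _ _ j).2, sub_zero] at h1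
  · refine sub_eq_zero.1 (hsepC _ fun n => ?_)
    have key : ∀ n, z = (seq n).1 + ∑ j, a j • (∑ l ∈ Finset.range n, βC j l) + d (∑ l ∈ Finset.range n, βP l) := by
      intro n
      induction n with
      | zero =>
        simp only [Finset.range_zero, Finset.sum_empty, smul_zero, Finset.sum_const_zero, add_zero, map_zero]
        rfl
      | succ n ih =>
        show z = ((seq n).1 - ∑ j, a j • βC j n - d (βP n)) + _ + _
        simp only [Finset.sum_range_succ, smul_add, Finset.sum_add_distrib, map_add]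
        refine ih.trans ?_
        abel
    rw [show z - ∑ j, a j • s j - d t = (seq n).1 - ∑ j, a j • (s j - ∑ l ∈ Finset.range n, βC j l) -
      d (t - ∑ l ∈ Finset.range n, βP l) by
        conv_lhs => rw [key n]
        simp only [smul_sub, Finset.sum_sub_distrib, map_sub]
        abel]
    refine sub_mem (sub_mem (hCanti (by omega) (seq n).2.1) (sum_mem fun j _ => ?_)) ?_
    · exact hCanti (Nat.le_succ n) (haC j n _ (hs j n))
    · exact hd n _ (ht n)

end Groth.Agent.FProper
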