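import Groth.Agent.FProperLib.CochFil
import Groth.Agent.FProperLib.GoodGen

/-!
# Deep cocycles of a coherent module on a proper formal scheme
-/

set_option autoImplicit false
set_option linter.style.haveILetI false
set_option linter.unusedSectionVars false
set_option backward.isDefEq.respectTransparency false
set_option backward.isDefEq.respectTransparency.types false
set_option maxHeartbeats 1000000

universe u

open CategoryTheory CategoryTheory.Limits AlgebraicGeometry TopologicalSpace Opposite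
open Groth.Agent.CohBase

noncomputable section

namespace Groth.Agent.FProper

open Groth.Agent.FCompl

variable {A : Type u} [CommRing A] [IsNoetherianRing A] (J : Ideal A) {𝔛 : FSch.Sys.{u}} {h : 𝔛.IsFormal}
  (f : 𝔛 ⟶ FSch.spf A J) {ι : Type u} (U : ι → (𝔛.X 0).Opens)
  (hL : 𝔛.IsLocNoethFormal) {𝔉 : FSch.ModF 𝔛 h} (h𝔉 : FSch.IsCohF 𝔛 h 𝔉)
  (haff : ∀ (m : ℕ) (i : Fin (m + 1) → ι), IsAffineOpen (inter U i)) (hcov : ⊤ ≤ iSup U)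
  {σ : Type} [Fintype σ] (a : σ → A) (ha : ∀ j, a j ∈ J) (hspan : Ideal.span (Set.range a) = J)

include hL h𝔉 haff hcov ha hspan

theorem exists_good_aux (h𝔜 : (FSch.spf A J).IsLocNoethFormal) (hf : FSch.IsProperHom f) [Finite ι] (q : ℕ)
    {P : Type u} [AddCommGroup P] [Module A P] (d : P →ₗ[A] CA (ψ J f h) U q 𝔉) (FP : ℕ → Submodule A P)
    (hPanti : Antitone FP) (hed : ∀ b, dA (ψ J f h) U q 𝔉 (d b) = 0)
    (hd : ∀ k, ∀ b ∈ FP k, d b ∈ CF (ψ J f h) U 𝔉 q k)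
    (hsumP : ∀ b : ℕ → P, (∀ n, b n ∈ FP n) → ∃ s, ∀ n, s - ∑ l ∈ Finset.range n, b l ∈ FP n)
    (hcl : ∀ k (hac : Acyclic U (TS (Gr 𝔉 k))) z, clF (ψ J f h) U 𝔉 hcov q k hac z = 0 →
      ∃ b ∈ FP k, z.1 - d b ∈ CF (ψ J f h) U 𝔉 q (k + 1)) :
    ∃ N, ∀ k, N ≤ k → ∀ z ∈ CF (ψ J f h) U 𝔉 q (k + 1), dA (ψ J f h) U q 𝔉 z = 0 →
      ∃ w : σ → CA (ψ J f h) U q 𝔉, (∀ j, w j ∈ CF (ψ J f h) U 𝔉 q k ∧ dA (ψ J f h) U q 𝔉 (w j) = 0) ∧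
        ∃ b, z - ∑ j, a j • w j = d b := by
  classical
  let T := grTower J f hL hf.1 h𝔉 a ha
  have hK : ∀ k, Killed J f h (T.N k) := killed_Gr J f hL hf.1 h𝔉
  haveI := compactSpace_of_proper J f hf
  haveI : ∀ k, Module.Finite A (HS (ψ J f h) q (T.N k)) := fun k =>
    finite_HS J f h hL h𝔜 hf (hK k).1 ((hK k).isT hL hf.1) _
  let e := Finite.equivFin ι
  have hgen := gen_HS hL h𝔜 hf (fun i : Fin (Nat.card ι) => inter U (fun _ : Fin 1 => e.symm i))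
    (fun i => haff 0 _) (fun x hx => by
      obtain ⟨i, hi⟩ := Opens.mem_iSup.1 (hcov hx)
      refine Opens.mem_iSup.2 ⟨e i, ?_⟩
      rw [Equiv.symm_apply_apply]
      rw [← inter_const (U := U) i]
      exact hi) T hK
    (fun i => gen_ΓF J f hL hf.1 h𝔉 a ha hspan (haff 0 _)) q
  have hac : ∀ k, Acyclic U (TS (Gr 𝔉 k)) := fun k => acyclic_coh U hL (coh_Gr hL h𝔉 k) haff
  refine exists_good d (dA (ψ J f h) U q 𝔉) FP (CF (ψ J f h) U 𝔉 q) (CF (ψ J f h) U 𝔉 (q + 1)) a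
    (H := fun k => HS (ψ J f h) q (T.N k)) (fun j k => HAmap (ψ J f h) q (T.m j k))
    (fun i j k x => ?_) hgen hed hd (fun k z hz => dA_mem_CF _ U 𝔉 q k hz) hPanti (CF_anti _ U 𝔉 q)
    (fun j k z hz => smul_mem_CF J f U hL h𝔉 haff hf.1 q k (ha j) hz)
    (fun k => clF (ψ J f h) U 𝔉 hcov q k (hac k)) (fun k z hz => hcl k (hac k) z hz) (fun j k z w hw => ?_)
    hsumP (CF_sum U hL h𝔉 _ q) (CF_sep U hL h𝔉 _ q) (CF_sep U hL h𝔉 _ (q + 1))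
  · exact congr($(((HAF (ψ J f h) q).map_comp (T.m j k) (T.m i (k + 1))).symm.trans
      ((congrArg (HAF (ψ J f h) q).map (T.comm i j k)).trans
        ((HAF (ψ J f h) q).map_comp (T.m i k) (T.m j (k + 1))))).hom x)
  · refine HAmap_clA (ψ J f h) U hcov (hac k) (hac (k + 1)) q (mGr J f hL hf.1 h𝔉 k (ha j)) _ _ ?_
    show CAmap (ψ J f h) U q (grπ 𝔉 (k + 1)) ((flEquiv (ψ J f h) U 𝔉 q (k + 1)).symm ⟨w.1, w.2.1⟩) =
      CAmap (ψ J f h) U q (mGr J f hL hf.1 h𝔉 k (ha j))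
        (CAmap (ψ J f h) U q (grπ 𝔉 k) ((flEquiv (ψ J f h) U 𝔉 q k).symm ⟨z.1, z.2.1⟩))
    rw [← CAmap_comp (ψ J f h) U (grπ 𝔉 k), grπ_mGr, CAmap_comp]
    refine congrArg (CAmap (ψ J f h) U q (grπ 𝔉 (k + 1))) ?_
    refine CAmap_injective (ψ J f h) U (flι 𝔉 (k + 1)) ?_
    rw [flι_symm, ← CAmap_comp, mFl_flι, CAmap_comp, flι_symm]
    exact hw

/-- Deep cocycles in degree zero. -/
theorem exists_good_zero (h𝔜 : (FSch.spf A J).IsLocNoethFormal) (hf : FSch.IsProperHom f) [Finite ι] :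
    ∃ N, ∀ k, N ≤ k → ∀ z ∈ CF (ψ J f h) U 𝔉 0 (k + 1), dA (ψ J f h) U 0 𝔉 z = 0 →
      ∃ w : σ → CA (ψ J f h) U 0 𝔉, (∀ j, w j ∈ CF (ψ J f h) U 𝔉 0 k ∧ dA (ψ J f h) U 0 𝔉 (w j) = 0) ∧
        z = ∑ j, a j • w j := by
  obtain ⟨N, hN⟩ := exists_good_aux J f U hL h𝔉 haff hcov a ha hspan h𝔜 hf 0
    (0 : CA (ψ J f h) U 0 𝔉 →ₗ[A] CA (ψ J f h) U 0 𝔉) (CF (ψ J f h) U 𝔉 0) (CF_anti _ U 𝔉 0)
    (fun b => map_zero _) (fun k b _ => zero_mem _) (CF_sum U hL h𝔉 _ 0) (fun k hac z hz => by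
      refine ⟨0, zero_mem _, ?_⟩
      rw [LinearMap.zero_apply, sub_zero]
      exact toGr_eq_zero (ψ J f h) U 𝔉 0 k ⟨z.1, z.2.1⟩ ((clA_zero_eq_zero (ψ J f h) U hcov hac _).1 hz))
  refine ⟨N, fun k hk z hz hez => ?_⟩
  obtain ⟨w, hw, b, hb⟩ := hN k hk z hz hez
  exact ⟨w, hw, sub_eq_zero.1 hb⟩

/-- Deep cocycles in positive degree. -/
theorem exists_good_succ (h𝔜 : (FSch.spf A J).IsLocNoethFormal) (hf : FSch.IsProperHom f) [Finite ι] (q : ℕ) :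
    ∃ N, ∀ k, N ≤ k → ∀ z ∈ CF (ψ J f h) U 𝔉 (q + 1) (k + 1), dA (ψ J f h) U (q + 1) 𝔉 z = 0 →
      ∃ w : σ → CA (ψ J f h) U (q + 1) 𝔉,
        (∀ j, w j ∈ CF (ψ J f h) U 𝔉 (q + 1) k ∧ dA (ψ J f h) U (q + 1) 𝔉 (w j) = 0) ∧
        ∃ b, z - ∑ j, a j • w j = dA (ψ J f h) U q 𝔉 b := by
  refine exists_good_aux J f U hL h𝔉 haff hcov a ha hspan h𝔜 hf (q + 1) (dA (ψ J f h) U q 𝔉)
    (CF (ψ J f h) U 𝔉 q) (CF_anti _ U 𝔉 q) (fun b => dA_dA _ U q 𝔉 b) (fun k b hb => dA_mem_CF _ U 𝔉 q k hb)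
    (CF_sum U hL h𝔉 _ q) fun k hac z hz => ?_
  obtain ⟨b, hb⟩ := (clA_succ_eq_zero (ψ J f h) U hcov hac q _).1 hz
  obtain ⟨w, rfl⟩ := exists_toGr_eq U hL h𝔉 haff (ψ J f h) q k b
  rw [dA_toGr] at hb
  refine ⟨w.1, w.2, ?_⟩
  exact toGr_eq_zero (ψ J f h) U 𝔉 (q + 1) k
    ⟨z.1 - dA (ψ J f h) U q 𝔉 w.1, sub_mem z.2.1 (dA_mem_CF _ U 𝔉 q k w.2)⟩ (by
      rw [show (⟨z.1 - dA (ψ J f h) U q 𝔉 w.1, _⟩ : CF (ψ J f h) U 𝔉 (q + 1) k) =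
        (⟨z.1, z.2.1⟩ : CF (ψ J f h) U 𝔉 (q + 1) k) - ⟨dA (ψ J f h) U q 𝔉 w.1, dA_mem_CF _ U 𝔉 q k w.2⟩ from rfl,
        map_sub, sub_eq_zero]
      exact hb.symm)

end Groth.Agent.FProper
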