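import Groth.Agent.FProperLib.CochFil
import Groth.Agent.ARSysLib.Basic
import Groth.Agent.FormalLib.Compare

/-!
# Cohomology of a coherent module on a proper formal scheme and of its levels
-/

set_option autoImplicit false
set_option linter.style.haveILetI false
set_option linter.unusedSectionVars false
set_option backward.isDefEq.respectTransparency false
set_option backward.isDefEq.respectTransparency.types false
set_option maxHeartbeats 1000000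

universe u

open CategoryTheory CategoryTheory.Limits AlgebraicGeometry TopologicalSpace Opposite
open Groth.Agent.CohBase

noncomputable section

namespace Groth.Agent.FProper

open Groth.Agent.FCompl

/-- Images in abelian groups. -/
theorem imLE_of_range {A B X : AddCommGrpCat.{u}} (f : A ⟶ X) (g : B ⟶ X) (H : ∀ a, ∃ b, g.hom b = f.hom a) :
    ARSysLib.ImLE f g := by
  let S : AddSubgroup (A × B) := (f.hom.comp (AddMonoidHom.fst A B)).eqLocus (g.hom.comp (AddMonoidHom.snd A B))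
  refine ⟨AddCommGrpCat.of ↥S, AddCommGrpCat.ofHom ((AddMonoidHom.fst A B).comp S.subtype), ?_,
    AddCommGrpCat.ofHom ((AddMonoidHom.snd A B).comp S.subtype), ?_⟩
  · rw [AddCommGrpCat.epi_iff_surjective]
    intro a
    obtain ⟨b, hb⟩ := H a
    exact ⟨⟨(a, b), hb.symm⟩, rfl⟩
  · ext x
    exact x.2

/-- The transition of the levels. -/
def ltr {𝔛 : FSch.Sys.{u}} {h : 𝔛.IsFormal} (𝔉 : FSch.ModF 𝔛 h) (k : ℕ) : lvl 𝔉 (k + 1) ⟶ lvl 𝔉 k :=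
  FSch.levelTrans 𝔛 h 𝔉 k

lemma prj_ltr {𝔛 : FSch.Sys.{u}} {h : 𝔛.IsFormal} (𝔉 : FSch.ModF 𝔛 h) (k : ℕ) :
    prj 𝔉 (k + 1) ≫ ltr 𝔉 k = prj 𝔉 k :=
  FSch.unit_levelTrans 𝔛 h 𝔉 k

section Cochains

variable {A : Type u} [CommRing A] {𝔛 : FSch.Sys.{u}} {h : 𝔛.IsFormal} (φ : A →+* DerComp.GSec (𝔛.Osh h))
  {ι : Type u} (U : ι → (𝔛.X 0).Opens) (hcov : ⊤ ≤ iSup U) (hL : 𝔛.IsLocNoethFormal) {𝔉 : FSch.ModF 𝔛 h}
  (h𝔉 : FSch.IsCohF 𝔛 h 𝔉) (haff : ∀ (m : ℕ) (i : Fin (m + 1) → ι), IsAffineOpen (inter U i))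

lemma CAmap_prj_eq_zero {q k : ℕ} {z : CA φ U q 𝔉} :
    CAmap φ U q (prj 𝔉 k) z = 0 ↔ z ∈ CF φ U 𝔉 q (k + 1) := Iff.rfl

include hL h𝔉 haff in
lemma exists_prj_eq (q k : ℕ) (w : CA φ U q (lvl 𝔉 k)) : ∃ z, CAmap φ U q (prj 𝔉 k) z = w := by
  choose y hy using fun i => prj_surjective hL h𝔉 (haff q i) k (cpt φ U w i)
  exact ⟨(show CA φ U q 𝔉 from y), cpt_ext φ U hy⟩

/-- The cocycle of a cochain with image a cocycle. -/
def zk {q : ℕ} {M : FSch.ModF 𝔛 h} (z : CA φ U q M) (hz : dA φ U q M z = 0) : LinearMap.ker (dA φ U q M) := ⟨z, hz⟩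

include hL h𝔉 haff in
lemma exists_corr (q k : ℕ) (hk : Acyclic U (TS (lvl 𝔉 k))) (h0 : Acyclic U (TS 𝔉))
    (w : LinearMap.ker (dA φ U q (lvl 𝔉 k))) (hw : clA φ U hcov hk q w = 0) :
    ∃ δ : LinearMap.ker (dA φ U q 𝔉), CAmap φ U q (prj 𝔉 k) δ.1 = w.1 ∧ clA φ U hcov h0 q δ = 0 := by
  cases q with
  | zero =>
    exact ⟨0, (map_zero _).trans ((clA_zero_eq_zero φ U hcov hk w).1 hw).symm, map_zero _⟩
  | succ r =>
    obtain ⟨b, hb⟩ := (clA_succ_eq_zero φ U hcov hk r w).1 hw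
    obtain ⟨b', rfl⟩ := exists_prj_eq φ U hL h𝔉 haff r k b
    refine ⟨zk φ U (dA φ U r 𝔉 b') (dA_dA φ U r 𝔉 b'), ?_, (clA_succ_eq_zero φ U hcov h0 r _).2 ⟨b', rfl⟩⟩
    show CAmap φ U (r + 1) (prj 𝔉 k) (dA φ U r 𝔉 b') = w.1
    rw [← dA_CAmap, hb]

include hcov hL h𝔉 haff in
/-- Compatible classes on the levels come from a class. -/
theorem exists_lift_classes (q : ℕ) (y : ∀ k, HS φ q (lvl 𝔉 k))
    (hy : ∀ k, HAmap φ q (ltr 𝔉 k) (y (k + 1)) = y k) :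
    ∃ x : HS φ q 𝔉, ∀ k, HAmap φ q (prj 𝔉 k) x = y k := by
  classical
  have h0 : Acyclic U (TS 𝔉) := acyclic_coh U hL h𝔉 haff
  have hac : ∀ k, Acyclic U (TS (lvl 𝔉 k)) := fun k => acyclic_coh U hL (coh_lvl hL h𝔉 k) haff
  have htr : ∀ k (z : CA φ U q 𝔉), CAmap φ U q (ltr 𝔉 k) (CAmap φ U q (prj 𝔉 (k + 1)) z) =
      CAmap φ U q (prj 𝔉 k) z := fun k z => by
    refine (CAmap_comp φ U (prj 𝔉 (k + 1)) (ltr 𝔉 k) z).symm.trans ?_
    exact congrArg (fun g => CAmap φ U q g z) (prj_ltr 𝔉 k)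
  let Good : ∀ k : ℕ, CA φ U q 𝔉 → Prop := fun k z =>
    ∃ hz : dA φ U q (lvl 𝔉 k) (CAmap φ U q (prj 𝔉 k) z) = 0, clA φ U hcov (hac k) q (zk φ U _ hz) = y k
  have first : ∃ z, Good 0 z := by
    obtain ⟨w, hw⟩ := clA_surjective φ U hcov (hac 0) q (y 0)
    obtain ⟨z, hz⟩ := exists_prj_eq φ U hL h𝔉 haff q 0 w.1
    exact ⟨z, by rw [hz]; exact w.2, (congrArg (clA φ U hcov (hac 0) q) (Subtype.ext hz)).trans hw⟩
  have step : ∀ k z, Good k z → ∃ z', Good (k + 1) z' ∧ z' - z ∈ CF φ U 𝔉 q (k + 1) := by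
    rintro k z ⟨hz, hzy⟩
    obtain ⟨w, hw⟩ := clA_surjective φ U hcov (hac (k + 1)) q (y (k + 1))
    obtain ⟨z₁, hz₁⟩ := exists_prj_eq φ U hL h𝔉 haff q (k + 1) w.1
    have hwk : dA φ U q (lvl 𝔉 k) (CAmap φ U q (prj 𝔉 k) z₁) = 0 := by
      rw [← htr, dA_CAmap, hz₁, show dA φ U q (lvl 𝔉 (k + 1)) w.1 = 0 from w.2, map_zero]
    have hyk : clA φ U hcov (hac k) q (zk φ U _ hwk) = y k := by
      rw [← hy k, ← hw]
      exact (HAmap_clA φ U hcov (hac (k + 1)) (hac k) q (ltr 𝔉 k) w (zk φ U _ hwk)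
        (by show CAmap φ U q (prj 𝔉 k) z₁ = _; rw [← htr, hz₁])).symm
    obtain ⟨δ, hδ, hδ0⟩ := exists_corr φ U hcov hL h𝔉 haff q k (hac k) h0 (zk φ U _ hwk - zk φ U _ hz) (by
      rw [map_sub, hyk, hzy, sub_self])
    let δ' : LinearMap.ker (dA φ U q (lvl 𝔉 (k + 1))) :=
      zk φ U (CAmap φ U q (prj 𝔉 (k + 1)) δ.1) (by
        rw [dA_CAmap, show dA φ U q 𝔉 δ.1 = 0 from δ.2, map_zero])
    have hval : CAmap φ U q (prj 𝔉 (k + 1)) (z₁ - δ.1) = (w - δ').1 :=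
      (map_sub (CAmap φ U q (prj 𝔉 (k + 1))) _ _).trans (congrArg (· - _) hz₁)
    refine ⟨z₁ - δ.1, ⟨by rw [hval]; exact (w - δ').2, ?_⟩, ?_⟩
    · refine (congrArg (clA φ U hcov (hac (k + 1)) q) (Subtype.ext hval)).trans ?_
      rw [map_sub, hw, ← HAmap_clA φ U hcov h0 (hac (k + 1)) q (prj 𝔉 (k + 1)) δ δ' rfl, hδ0, map_zero, sub_zero]
    · rw [← CAmap_prj_eq_zero, map_sub, map_sub, hδ]
      show CAmap φ U q (prj 𝔉 k) z₁ - (CAmap φ U q (prj 𝔉 k) z₁ - CAmap φ U q (prj 𝔉 k) z) -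
        CAmap φ U q (prj 𝔉 k) z = 0
      abel
  obtain ⟨z₀, hz₀⟩ := first
  choose g hg hg' using step
  let Z : ∀ k, { z // Good k z } := fun k =>
    Nat.rec (motive := fun k => { z // Good k z }) ⟨z₀, hz₀⟩ (fun k z => ⟨g k z.1 z.2, hg k z.1 z.2⟩) k
  let b : ℕ → CA φ U q 𝔉 := fun n => Nat.casesOn n (Z 0).1 fun l => (Z (l + 1)).1 - (Z l).1
  have hb : ∀ n, b n ∈ CF φ U 𝔉 q n
    | 0 => by rw [CF_zero]; trivial
    | l + 1 => hg' l (Z l).1 (Z l).2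
  have hbs : ∀ n, ∑ l ∈ Finset.range (n + 1), b l = (Z n).1 := by
    intro n
    induction n with
    | zero => rw [Finset.sum_range_one]; rfl
    | succ n ih =>
      rw [Finset.sum_range_succ, ih]
      exact add_sub_cancel _ _
  obtain ⟨s, hs⟩ := CF_sum U hL h𝔉 φ q b hb
  have hsk : ∀ k, CAmap φ U q (prj 𝔉 k) s = CAmap φ U q (prj 𝔉 k) (Z k).1 := fun k => by
    have e := hs (k + 1)
    rw [hbs, ← CAmap_prj_eq_zero, map_sub] at e
    exact sub_eq_zero.1 e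
  have hds : dA φ U q 𝔉 s = 0 := CF_sep U hL h𝔉 φ (q + 1) _ fun k => by
    cases k with
    | zero => rw [CF_zero]; trivial
    | succ k =>
      rw [← CAmap_prj_eq_zero, ← dA_CAmap, hsk]
      exact (Z k).2.1
  refine ⟨clA φ U hcov h0 q (zk φ U s hds), fun k => ?_⟩
  obtain ⟨hz, hzy⟩ := (Z k).2
  rw [HAmap_clA φ U hcov h0 (hac k) q (prj 𝔉 k) (zk φ U s hds) (zk φ U _ hz) (hsk k).symm]
  exact hzy

end Cochains

variable {A : Type u} [CommRing A] [IsNoetherianRing A] {J : Ideal A} {𝔛 : FSch.Sys.{u}} {h : 𝔛.IsFormal}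
  {f : 𝔛 ⟶ FSch.spf A J} (hL : 𝔛.IsLocNoethFormal) (h𝔜 : (FSch.spf A J).IsLocNoethFormal)
  (hf : FSch.IsProperHom f) {𝔉 : FSch.ModF 𝔛 h} (h𝔉 : FSch.IsCohF 𝔛 h 𝔉)

include hf in
/-- A finite covering with affine intersections. -/
theorem exists_cover : ∃ (ι : Type u) (_ : Finite ι) (U : ι → (𝔛.X 0).Opens), (⊤ : (𝔛.X 0).Opens) ≤ iSup U ∧
    ∀ (m : ℕ) (i : Fin (m + 1) → ι), IsAffineOpen (inter U i) := by
  haveI := hf.2
  haveI : IsProper (pA J f 0) :=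
    MorphismProperty.comp_mem _ _ _ hf.2 (inferInstance : IsProper (FSch.spfToSpec A J 0))
  exact FormalLib.exists_affine_cover (pA J f 0)

include hL h𝔜 hf h𝔉 in
/-- A class killed on all levels vanishes. -/
theorem eq_zero_of_levels (q : ℕ) (x : HS (ψ J f h) q 𝔉)
    (hx : ∀ k, HAmap (ψ J f h) q (prj 𝔉 k) x = 0) : x = 0 := by
  obtain ⟨ι, hι, U, hcov, haff⟩ := exists_cover hf
  haveI := hι
  let φ := ψ J f h
  have h0 : Acyclic U (TS 𝔉) := acyclic_coh U hL h𝔉 haff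
  have hac : ∀ k, Acyclic U (TS (lvl 𝔉 k)) := fun k => acyclic_coh U hL (coh_lvl hL h𝔉 k) haff
  obtain ⟨z, rfl⟩ := clA_surjective φ U hcov h0 q x
  have hz : ∀ k, ∃ hzk : dA φ U q (lvl 𝔉 k) (CAmap φ U q (prj 𝔉 k) z.1) = 0,
      clA φ U hcov (hac k) q (zk φ U _ hzk) = 0 := fun k => by
    have hzk : dA φ U q (lvl 𝔉 k) (CAmap φ U q (prj 𝔉 k) z.1) = 0 := by
      rw [dA_CAmap, show dA φ U q 𝔉 z.1 = 0 from z.2, map_zero]
    exact ⟨hzk, (HAmap_clA φ U hcov h0 (hac k) q (prj 𝔉 k) z (zk φ U _ hzk) rfl).symm.trans (hx k)⟩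
  cases q with
  | zero =>
    refine (clA_zero_eq_zero φ U hcov h0 z).2 (CF_sep U hL h𝔉 φ 0 _ fun k => ?_)
    cases k with
    | zero => rw [CF_zero]; trivial
    | succ k =>
      obtain ⟨hzk, e⟩ := hz k
      exact (CAmap_prj_eq_zero φ U).1 ((clA_zero_eq_zero φ U hcov (hac k) _).1 e)
  | succ r =>
    have hb : ∀ k, ∃ b, z.1 - dA φ U r 𝔉 b ∈ CF φ U 𝔉 (r + 1) (k + 1) := fun k => by
      obtain ⟨hzk, e⟩ := hz k
      obtain ⟨b, hb⟩ := (clA_succ_eq_zero φ U hcov (hac k) r _).1 e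
      obtain ⟨b', rfl⟩ := exists_prj_eq φ U hL h𝔉 haff r k b
      refine ⟨b', ?_⟩
      rw [← CAmap_prj_eq_zero, map_sub, ← dA_CAmap, hb]
      exact sub_self _
    choose b hb using hb
    obtain ⟨c, hc⟩ := exists_bound J f U hL h𝔉 haff hcov h𝔜 hf r
    have hd : ∀ k, dA φ U r 𝔉 (b (k + 1) - b k) ∈ CF φ U 𝔉 (r + 1) (k + 1) := fun k => by
      rw [map_sub, show dA φ U r 𝔉 (b (k + 1)) - dA φ U r 𝔉 (b k) =
        (z.1 - dA φ U r 𝔉 (b k)) - (z.1 - dA φ U r 𝔉 (b (k + 1))) by abel]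
      exact sub_mem (hb k) (CF_anti φ U 𝔉 (r + 1) (Nat.le_succ _) (hb (k + 1)))
    choose b' hb' hdb' using fun k => hc (k + 1) (b (k + 1) - b k) (hd k)
    let β : ℕ → CA φ U r 𝔉 := fun n => b' (n + c)
    obtain ⟨s, hs⟩ := CF_sum U hL h𝔉 φ r β fun n => CF_anti φ U 𝔉 r (by omega) (hb' (n + c))
    refine (clA_succ_eq_zero φ U hcov h0 r z).2 ⟨b c + s, ?_⟩
    have key : ∀ n, dA φ U r 𝔉 (b c + ∑ l ∈ Finset.range n, β l) = dA φ U r 𝔉 (b (n + c)) := by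
      intro n
      induction n with
      | zero => rw [Finset.sum_range_zero, add_zero, Nat.zero_add]
      | succ n ih =>
        rw [Finset.sum_range_succ, ← add_assoc, map_add, ih, show n + 1 + c = n + c + 1 by omega]
        show dA φ U r 𝔉 (b (n + c)) + dA φ U r 𝔉 (b' (n + c)) = _
        rw [hdb', map_sub]
        abel
    refine (sub_eq_zero.1 (CF_sep U hL h𝔉 φ (r + 1) _ fun n => ?_)).symm
    rw [show z.1 - dA φ U r 𝔉 (b c + s) = (z.1 - dA φ U r 𝔉 (b (n + c))) -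
      dA φ U r 𝔉 (s - ∑ l ∈ Finset.range n, β l) by
        rw [← key n, map_add, map_add, map_sub]; abel]
    exact sub_mem (CF_anti φ U 𝔉 (r + 1) (by omega) (hb (n + c))) (dA_mem_CF φ U 𝔉 r n (hs n))

include hL h𝔜 hf h𝔉 in
/-- Classes of a level reaching far down come from classes of the module. -/
theorem exists_class_eq (q : ℕ) : ∃ c, ∀ m k, m + c ≤ k → ∀ (t : lvl 𝔉 k ⟶ lvl 𝔉 m), prj 𝔉 k ≫ t = prj 𝔉 m →
    ∀ y : HS (ψ J f h) q (lvl 𝔉 k), ∃ x : HS (ψ J f h) q 𝔉,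
      HAmap (ψ J f h) q t y = HAmap (ψ J f h) q (prj 𝔉 m) x := by
  obtain ⟨ι, hι, U, hcov, haff⟩ := exists_cover hf
  haveI := hι
  let φ := ψ J f h
  obtain ⟨c, hc⟩ := exists_bound J f U hL h𝔉 haff hcov h𝔜 hf q
  refine ⟨c, fun m k hmk t ht y => ?_⟩
  have h0 : Acyclic U (TS 𝔉) := acyclic_coh U hL h𝔉 haff
  have hac : ∀ k, Acyclic U (TS (lvl 𝔉 k)) := fun k => acyclic_coh U hL (coh_lvl hL h𝔉 k) haff
  obtain ⟨w, rfl⟩ := clA_surjective φ U hcov (hac k) q y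
  obtain ⟨z, hz⟩ := exists_prj_eq φ U hL h𝔉 haff q k w.1
  have hd : dA φ U q 𝔉 z ∈ CF φ U 𝔉 (q + 1) (k + 1) := by
    rw [← CAmap_prj_eq_zero, ← dA_CAmap, hz]
    exact w.2
  obtain ⟨z', hz', hdz'⟩ := hc (k + 1) z hd
  have hcyc : dA φ U q 𝔉 (z - z') = 0 := by rw [map_sub, hdz', sub_self]
  refine ⟨clA φ U hcov h0 q (zk φ U _ hcyc), ?_⟩
  have hm : CAmap φ U q (prj 𝔉 m) (z - z') = CAmap φ U q t w.1 := by
    rw [map_sub, show CAmap φ U q (prj 𝔉 m) z' = 0 from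
      (CAmap_prj_eq_zero φ U).2 (CF_anti φ U 𝔉 q (by omega) hz'), sub_zero, ← hz]
    exact (congrArg (fun g => CAmap φ U q g z) ht.symm).trans (CAmap_comp φ U (prj 𝔉 k) t z)
  have hcm : dA φ U q (lvl 𝔉 m) (CAmap φ U q t w.1) = 0 := by
    rw [dA_CAmap, show dA φ U q (lvl 𝔉 k) w.1 = 0 from w.2, map_zero]
  rw [HAmap_clA φ U hcov (hac k) (hac m) q t w (zk φ U _ hcm) rfl,
    HAmap_clA φ U hcov h0 (hac m) q (prj 𝔉 m) (zk φ U _ hcyc) (zk φ U _ hcm) hm.symm]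

variable (𝔉) in
/-- The levels as a system. -/
abbrev lvlSys : ℕᵒᵖ ⥤ FSch.ModF 𝔛 h := Functor.ofOpSequence (X := lvl 𝔉) (ltr 𝔉)

lemma prj_lvlSys_map {m k : ℕ} (hmk : m ≤ k) : prj 𝔉 k ≫ (lvlSys 𝔉).map (homOfLE hmk).op = prj 𝔉 m := by
  induction k, hmk using Nat.le_induction with
  | base =>
    rw [show (homOfLE (le_refl m)).op = 𝟙 (op m) from rfl, CategoryTheory.Functor.map_id]
    exact Category.comp_id _
  | succ k hk ih =>
    rw [show (homOfLE (hk.trans (Nat.le_succ k))).op =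
      (homOfLE (Nat.le_add_right k 1)).op ≫ (homOfLE hk).op from rfl, Functor.map_comp,
      show (lvlSys 𝔉).map (homOfLE (Nat.le_add_right k 1)).op = ltr 𝔉 k from
        Functor.ofOpSequence_map_homOfLE_succ _ k, ← Category.assoc, prj_ltr]
    exact ih

/-- The system of cohomology groups of the levels. -/
abbrev hSys (𝔉 : FSch.ModF 𝔛 h) (q : ℕ) : ℕᵒᵖ ⥤ AddCommGrpCat.{u} :=
  Functor.ofOpSequence (X := fun k => AddCommGrpCat.of (Sheaf.H.{u} (TS (lvl 𝔉 k)) q))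
    fun k => AddCommGrpCat.ofHom
      (Sheaf.H.map ((SheafOfModules.toSheaf (ModSite.ringSh (𝔛.Osh h))).map (ltr 𝔉 k)) q)

lemma hSys_map (q : ℕ) {m k : ℕ} (hmk : m ≤ k) (y : Sheaf.H.{u} (TS (lvl 𝔉 k)) q) :
    ((hSys 𝔉 q).map (homOfLE hmk).op).hom y =
      Sheaf.H.map ((SheafOfModules.toSheaf (ModSite.ringSh (𝔛.Osh h))).map ((lvlSys 𝔉).map (homOfLE hmk).op)) q y := by
  induction k, hmk using Nat.le_induction with
  | base =>
    rw [show (homOfLE (le_refl m)).op = 𝟙 (op m) from rfl, CategoryTheory.Functor.map_id,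
      CategoryTheory.Functor.map_id]
    exact (congrArg (fun g => Sheaf.H.map g q y)
      ((SheafOfModules.toSheaf (ModSite.ringSh (𝔛.Osh h))).map_id (lvl 𝔉 m))).trans (Sheaf.H.map_id_apply y) |>.symm
  | succ k hk ih =>
    rw [show (homOfLE (hk.trans (Nat.le_succ k))).op =
      (homOfLE (Nat.le_add_right k 1)).op ≫ (homOfLE hk).op from rfl, Functor.map_comp, Functor.map_comp,
      show (lvlSys 𝔉).map (homOfLE (Nat.le_add_right k 1)).op = ltr 𝔉 k from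
        Functor.ofOpSequence_map_homOfLE_succ _ k,
      show (hSys 𝔉 q).map (homOfLE (Nat.le_add_right k 1)).op = AddCommGrpCat.ofHom
        (Sheaf.H.map ((SheafOfModules.toSheaf (ModSite.ringSh (𝔛.Osh h))).map (ltr 𝔉 k)) q) from
        Functor.ofOpSequence_map_homOfLE_succ _ k]
    refine (ih _).trans ?_
    refine (Sheaf.H.map_comp_apply _ _ _).symm.trans ?_
    exact congrArg (fun g => Sheaf.H.map g q y) (Functor.map_comp _ _ _).symm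

include hL h𝔜 hf h𝔉 in
/-- The Mittag-Leffler condition. -/
theorem isML_hSys (q : ℕ) : ARSys.IsML (hSys 𝔉 q) := by
  obtain ⟨c, hc⟩ := exists_class_eq hL h𝔜 hf h𝔉 q
  intro m
  refine ⟨c, fun s hs => le_antisymm ?_ ?_⟩
  · exact (ARSysLib.imLE_iff _ _).2 (ARSysLib.imLE_tr_of_le _ (Nat.le_add_right m c) (Nat.add_le_add_left hs m))
  · refine (ARSysLib.imLE_iff _ _).2 (imLE_of_range _ _ fun (y : Sheaf.H.{u} (TS (lvl 𝔉 (m + c))) q) => ?_)
    obtain ⟨x, hx⟩ := hc m (m + c) le_rfl ((lvlSys 𝔉).map (homOfLE (Nat.le_add_right m c)).op)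
      (prj_lvlSys_map _) y
    refine ⟨Sheaf.H.map ((SheafOfModules.toSheaf (ModSite.ringSh (𝔛.Osh h))).map (prj 𝔉 (m + s))) q x, ?_⟩
    show ((hSys 𝔉 q).map (homOfLE (Nat.le_add_right m s)).op).hom
        (Sheaf.H.map ((SheafOfModules.toSheaf (ModSite.ringSh (𝔛.Osh h))).map (prj 𝔉 (m + s))) q x) =
      ((hSys 𝔉 q).map (homOfLE (Nat.le_add_right m c)).op).hom y
    rw [hSys_map, hSys_map]
    refine (Sheaf.H.map_comp_apply _ _ _).symm.trans ?_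
    rw [← Functor.map_comp, prj_lvlSys_map]
    exact hx.symm

end Groth.Agent.FProper
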