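import Groth.Agent.FProperLib.GradedNoeth
import Mathlib.Algebra.Category.ModuleCat.Basic
import Mathlib.Algebra.Homology.ShortComplex.ShortExact
import Mathlib.CategoryTheory.Abelian.Basic
import Mathlib.Data.Multiset.Basic
import Mathlib.Data.Sym.Basic
import Mathlib.CategoryTheory.Preadditive.AdditiveFunctor

/-!
# Cohomology of a tower generated in bounded degrees
-/

set_option autoImplicit false
set_option backward.isDefEq.respectTransparency false
set_option backward.isDefEq.respectTransparency.types false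
set_option linter.unusedSectionVars false
set_option linter.style.haveILetI false

universe u v w

open CategoryTheory CategoryTheory.Limits

noncomputable section

namespace Groth.Agent.FProper

variable {𝒜 : Type w} [Category.{v} 𝒜] [Abelian 𝒜] {σ : Type} [Finite σ]

variable (𝒜 σ) in
/-- A tower with commuting operators. -/
structure Tower where
  /-- The terms. -/
  N : ℕ → 𝒜
  /-- The operators. -/
  m : σ → ∀ k, N k ⟶ N (k + 1)
  comm : ∀ (i j : σ) (k : ℕ), m j k ≫ m i (k + 1) = m i k ≫ m j (k + 1)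

namespace Tower

variable (T : Tower 𝒜 σ)

/-- The composite along a word. -/
def pth {d : ℕ} : ∀ (l : List σ) (k : ℕ), d + l.length = k → (T.N d ⟶ T.N k)
  | [], _, h => eqToHom (by rw [← h]; rfl)
  | j :: l, _, h => pth l (d + l.length) rfl ≫ T.m j _ ≫ eqToHom (by rw [← h]; rfl)

lemma pth_cons {d : ℕ} (j : σ) (l : List σ) (k : ℕ) (h : d + l.length = k) (h' : d + (j :: l).length = k + 1) :
    T.pth (j :: l) (k + 1) h' = T.pth l k h ≫ T.m j k := by
  subst h
  rw [pth]
  simp

lemma pth_perm {d : ℕ} {l l' : List σ} (hl : l.Perm l') :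
    ∀ (k : ℕ) (h : d + l.length = k) (h' : d + l'.length = k), T.pth l k h = T.pth l' k h' := by
  induction hl with
  | nil => intros; rfl
  | cons j hp ih =>
    rename_i l₁ l₂
    intro k h h'
    obtain ⟨k, rfl⟩ := Nat.exists_eq_add_one_of_ne_zero (show k ≠ 0 by simp at h; omega)
    have hk : d + l₁.length = k := by simp at h; omega
    rw [pth_cons T j l₁ k hk, pth_cons T j l₂ k (by rw [← hp.length_eq]; exact hk), ih k hk]
  | swap i j l =>
    intro k h h'
    obtain ⟨k, rfl⟩ : ∃ k', k = k' + 1 + 1 := ⟨d + l.length, by simp at h; omega⟩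
    have hk : d + l.length = k := by simp at h; omega
    rw [pth_cons T j (i :: l) (k + 1) (by simp; omega), pth_cons T i (j :: l) (k + 1) (by simp; omega),
      pth_cons T i l k hk, pth_cons T j l k hk, Category.assoc, Category.assoc, T.comm]
  | trans h₁ _ ih₁ ih₂ =>
    intro k h h'
    exact (ih₁ k h (by rw [← h₁.length_eq]; exact h)).trans (ih₂ k _ h')

/-- Monomials of given degree. -/
abbrev Idx (σ : Type) (D k : ℕ) : Type := {p : Fin (D + 1) × Multiset σ // p.1.1 + Multiset.card p.2 = k}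

instance finite_idx (D k : ℕ) : Finite (Idx σ D k) := by
  classical
  cases nonempty_fintype σ
  refine Finite.of_injective (fun p : Idx σ D k =>
    (⟨p.1.1, ⟨p.1.2, by have := p.2; omega⟩⟩ : Σ d : Fin (D + 1), Sym σ (k - d.1))) ?_
  rintro ⟨⟨d, s⟩, h⟩ ⟨⟨d', s'⟩, h'⟩ e
  obtain rfl : d = d' := congrArg Sigma.fst e
  obtain rfl : s = s' := congrArg Subtype.val (eq_of_heq (Sigma.mk.inj_iff.1 e).2)
  rfl

variable (D : ℕ)

/-- Multiplication of a monomial by a variable. -/
def icons (j : σ) {k : ℕ} (p : Idx σ D k) : Idx σ D (k + 1) :=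
  ⟨(p.1.1, j ::ₘ p.1.2), by show p.1.1.1 + _ = _; rw [Multiset.card_cons]; have := p.2; omega⟩

variable [HasFiniteCoproducts 𝒜]

/-- The free tower. -/
def free : Tower 𝒜 σ where
  N k := ∐ fun p : Idx σ D k => T.N p.1.1.1
  m j k := Sigma.desc fun p => Sigma.ι (fun p : Idx σ D (k + 1) => T.N p.1.1.1) (icons D j p)
  comm i j k := by
    refine Sigma.hom_ext _ _ fun p => ?_
    rw [Sigma.ι_desc_assoc, Sigma.ι_desc, Sigma.ι_desc_assoc, Sigma.ι_desc]
    have e : icons D i (icons D j p) = icons D j (icons D i p) :=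
      Subtype.ext (Prod.ext rfl (Multiset.cons_swap i j p.1.2))
    exact (Sigma.eqToHom_comp_ι (fun p : Idx σ D (k + 1 + 1) => T.N p.1.1.1) e).symm.trans
      (Category.id_comp _)

/-- The presentation by the free tower. -/
def proj (k : ℕ) : (T.free D).N k ⟶ T.N k :=
  Sigma.desc fun p => T.pth p.1.2.toList k (by rw [Multiset.length_toList]; exact p.2)

lemma proj_m (j : σ) (k : ℕ) : (T.free D).m j k ≫ T.proj D (k + 1) = T.proj D k ≫ T.m j k := by
  refine Sigma.hom_ext _ _ fun p => ?_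
  dsimp only [free, proj]
  erw [Sigma.ι_desc_assoc, Sigma.ι_desc, Sigma.ι_desc_assoc]
  rw [← pth_cons T j p.1.2.toList k (by rw [Multiset.length_toList]; exact p.2)
    (by rw [List.length_cons, Multiset.length_toList, ← Nat.add_assoc, p.2])]
  refine T.pth_perm (Multiset.coe_eq_coe.1 ?_) (k + 1) _ _
  rw [← Multiset.cons_coe, Multiset.coe_toList, Multiset.coe_toList]
  rfl

/-- The kernels of the presentation. -/
def rel : Tower 𝒜 σ where
  N k := kernel (T.proj D k)
  m j k := kernel.lift _ (kernel.ι _ ≫ (T.free D).m j k) (by rw [Category.assoc, T.proj_m, kernel.condition_assoc, zero_comp])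
  comm i j k := by
    refine (cancel_mono (kernel.ι (T.proj D (k + 1 + 1)))).1 ?_
    simp only [Category.assoc, kernel.lift_ι, kernel.lift_ι_assoc]
    rw [(T.free D).comm]

end Tower

variable {A : Type u} [CommRing A]

/-- An additive functor applied to the free tower is generated in bounded degrees. -/
theorem gen_free [HasFiniteCoproducts 𝒜] (T : Tower 𝒜 σ) (D : ℕ) (G : 𝒜 ⥤ ModuleCat.{u} A) [G.Additive] :
    Gen (M := fun k => G.obj ((T.free D).N k)) (fun j k => (G.map ((T.free D).m j k)).hom) := by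
  classical
  refine ⟨D, fun k hk x _ => ?_⟩
  cases nonempty_fintype (Tower.Idx σ D (k + 1))
  let f := fun p : Tower.Idx σ D (k + 1) => T.N p.1.1.1
  let π : ∀ a, ∐ f ⟶ f a := fun a => Sigma.desc fun b => if h : b = a then eqToHom (h ▸ rfl) else 0
  have hid : ∑ a, π a ≫ Sigma.ι f a = 𝟙 (∐ f) := Sigma.hom_ext _ _ fun b => by
    rw [Preadditive.comp_sum, Category.comp_id, Finset.sum_eq_single b]
    · simp [π]
    · intro a _ hab
      simp [π, Ne.symm hab]
    · intro h; exact absurd (Finset.mem_univ b) h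
  have hx : x = ∑ a, (G.map (Sigma.ι f a)).hom ((G.map (π a)).hom x) := by
    have h := congr($(congrArg G.map hid).hom x)
    rw [G.map_id, G.map_sum, ModuleCat.hom_sum, LinearMap.sum_apply] at h
    simp only [G.map_comp, ModuleCat.hom_comp, LinearMap.comp_apply] at h
    exact h.symm
  rw [hx]
  refine Submodule.sum_mem _ fun a _ => ?_
  obtain ⟨⟨d, s⟩, hs⟩ := a
  obtain ⟨j, s', rfl⟩ : ∃ j s', s = j ::ₘ s' := by
    obtain ⟨j, hj⟩ := Multiset.exists_mem_of_ne_zero (s := s) (fun h => by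
      subst h; simp at hs; have := d.2; omega)
    exact ⟨j, _, (Multiset.cons_erase hj).symm⟩
  refine Submodule.mem_iSup_of_mem j ⟨(G.map (Sigma.ι (fun p : Tower.Idx σ D k => T.N p.1.1.1)
    ⟨(d, s'), by change d.1 + Multiset.card (j ::ₘ s') = k + 1 at hs; show d.1 + Multiset.card s' = k; rw [Multiset.card_cons] at hs; omega⟩)).hom ((G.map (π ⟨(d, j ::ₘ s'), hs⟩)).hom x), ?_⟩
  exact (congr($(G.map_comp _ ((T.free D).m j k)).hom _)).symm.trans
    (congrArg (fun φ => (G.map φ).hom _) (Sigma.ι_desc _ _))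

variable (A 𝒜) in
/-- A cohomology theory. -/
structure CohTh where
  /-- The functors. -/
  H : ℕ → 𝒜 ⥤ ModuleCat.{u} A
  additive : ∀ q, (H q).Additive
  /-- The connecting maps. -/
  δ : ∀ (S : ShortComplex 𝒜), S.ShortExact → ∀ q, (H q).obj S.X₃ →ₗ[A] (H (q + 1)).obj S.X₁
  natural : ∀ (S S' : ShortComplex 𝒜) (hS : S.ShortExact) (hS' : S'.ShortExact) (φ : S ⟶ S') (q : ℕ) (x),
    δ S' hS' q (((H q).map φ.τ₃).hom x) = ((H (q + 1)).map φ.τ₁).hom (δ S hS q x)
  exact : ∀ (S : ShortComplex 𝒜) (hS : S.ShortExact) (q : ℕ) (x), δ S hS q x = 0 →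
    ∃ y, ((H q).map S.g).hom y = x

variable [IsNoetherianRing A] [HasFiniteCoproducts 𝒜] (C : CohTh 𝒜 A) (P : 𝒜 → Prop) {ι : Type} [Finite ι]
  (R : ι → Type u) [∀ i, CommRing (R i)] [∀ i, IsNoetherianRing (R i)] (Γ : ∀ i, 𝒜 ⥤ ModuleCat.{u} (R i))
  [∀ i, (Γ i).Additive]

variable (hsum : ∀ {α : Type} [Finite α] (f : α → 𝒜), (∀ a, P (f a)) → P (∐ f))
  (hker : ∀ {M N : 𝒜} (φ : M ⟶ N), P M → P N → P (kernel φ))
  (hfin : ∀ (q : ℕ) (M : 𝒜), P M → Module.Finite A ((C.H q).obj M))
  (hfinΓ : ∀ (i : ι) (M : 𝒜), P M → Module.Finite (R i) ((Γ i).obj M))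
  (hΓinj : ∀ (i : ι) {M N : 𝒜} (φ : M ⟶ N), Function.Injective ((Γ i).map (kernel.ι φ)).hom)
  (hΓex : ∀ (i : ι) {M N : 𝒜} (φ : M ⟶ N) (x), ((Γ i).map φ).hom x = 0 → ∃ y, ((Γ i).map (kernel.ι φ)).hom y = x)
  (hepi : ∀ {M N : 𝒜} (φ : M ⟶ N), P M → P N → (∀ i, Function.Surjective ((Γ i).map φ).hom) → Epi φ)
  (n : ℕ) (hvan : ∀ q, n ≤ q → ∀ M, P M → Subsingleton ((C.H q).obj M))

include hsum hker hfin hfinΓ hΓinj hΓex hepi hvan

/-- The cohomology of a tower generated in bounded degrees is generated in bounded degrees. -/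
theorem gen_cohomology (q : ℕ) (T : Tower 𝒜 σ) (hT : ∀ k, P (T.N k))
    (hg : ∀ i, Gen (M := fun k => (Γ i).obj (T.N k)) (fun j k => ((Γ i).map (T.m j k)).hom)) :
    Gen (M := fun k => (C.H q).obj (T.N k)) (fun j k => ((C.H q).map (T.m j k)).hom) := by
  classical
  obtain ⟨t, ht⟩ : ∃ t, n ≤ q + t := ⟨n, by omega⟩
  induction t generalizing q T with
  | zero =>
    exact ⟨0, fun k _ x _ => by
      haveI := hvan q ht _ (hT (k + 1))
      rw [Subsingleton.elim x 0]
      exact zero_mem _⟩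
  | succ t ih =>
    choose Di hDi using hg
    obtain ⟨D, hD⟩ := Finite.exists_le Di
    have hF : ∀ k, P ((T.free D).N k) := fun k => hsum _ fun p => hT _
    have hK : ∀ k, P ((T.rel D).N k) := fun k => hker _ (hF k) (hT k)
    have hsurj : ∀ k i, Function.Surjective ((Γ i).map (T.proj D k)).hom := by
      intro k
      induction k using Nat.strong_induction_on with
      | _ k ihk =>
        intro i
        by_cases hk : k ≤ D
        · intro x
          refine ⟨((Γ i).map (Sigma.ι (fun p : Tower.Idx σ D k => T.N p.1.1.1)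
            ⟨(⟨k, by omega⟩, 0), by simp⟩)).hom x, ?_⟩
          refine (congr($((Γ i).map_comp _ (T.proj D k)).hom x)).symm.trans ?_
          rw [Tower.proj, Sigma.ι_desc]
          have : ∀ (l : List σ) (hl : l = []) (h : k + l.length = k), T.pth l k h = 𝟙 (T.N k) := by
            rintro _ rfl h; rfl
          rw [this _ (by simp)]
          exact congr($((Γ i).map_id _).hom x)
        · obtain ⟨k', rfl⟩ := Nat.exists_eq_add_one_of_ne_zero (show k ≠ 0 by omega)
          intro x
          have hx := hDi i k' (by have := hD i; omega) (show x ∈ ⊤ from trivial)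
          refine Submodule.iSup_induction (motive := fun y => ∃ a, ((Γ i).map (T.proj D (k' + 1))).hom a = y) _ hx
            (fun j y hy => ?_) ⟨0, map_zero _⟩ fun a b ⟨a', ha⟩ ⟨b', hb⟩ => ⟨a' + b', by rw [map_add, ha, hb]⟩
          obtain ⟨w, rfl⟩ := hy
          obtain ⟨a, rfl⟩ := ihk k' (by omega) i w
          refine ⟨((Γ i).map ((T.free D).m j k')).hom a, ?_⟩
          refine (congr($((Γ i).map_comp _ (T.proj D (k' + 1))).hom a)).symm.trans ?_
          rw [T.proj_m]
          exact congr($((Γ i).map_comp _ (T.m j k')).hom a)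
    haveI : ∀ k, Epi (T.proj D k) := fun k => hepi _ (hF k) (hT k) (hsurj k)
    let S : ℕ → ShortComplex 𝒜 := fun k => ShortComplex.mk (kernel.ι (T.proj D k)) (T.proj D k) (kernel.condition _)
    have hS : ∀ k, (S k).ShortExact := fun k =>
      ShortComplex.ShortExact.mk' (ShortComplex.exact_of_f_is_kernel _ (kernelIsKernel _)) inferInstance inferInstance
    let φ : ∀ (j : σ) (k : ℕ), S k ⟶ S (k + 1) := fun j k =>
      ⟨(T.rel D).m j k, (T.free D).m j k, T.m j k, kernel.lift_ι _ _ _, T.proj_m D j k⟩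
    -- the relations are generated in bounded degrees
    have hgK : ∀ i, Gen (M := fun k => (Γ i).obj ((T.rel D).N k)) (fun j k => ((Γ i).map ((T.rel D).m j k)).hom) := by
      intro i
      haveI : ∀ k, Module.Finite (R i) ((Γ i).obj ((T.free D).N k)) := fun k => hfinΓ i _ (hF k)
      obtain ⟨E, hE⟩ := stable_gen (M := fun k => (Γ i).obj ((T.free D).N k))
        (fun j k => ((Γ i).map ((T.free D).m j k)).hom)
        (fun a b k x => congr($(((Γ i).map_comp _ _).symm.trans ((congrArg (Γ i).map ((T.free D).comm a b k)).trans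
          ((Γ i).map_comp _ _))).hom x))
        (gen_free T D (Γ i)) (fun k => LinearMap.range ((Γ i).map (kernel.ι (T.proj D k))).hom)
        (fun j k x hx => by
          obtain ⟨y, rfl⟩ := hx
          exact ⟨((Γ i).map ((T.rel D).m j k)).hom y, congr($(((Γ i).map_comp _ _).symm.trans
            ((congrArg (Γ i).map (kernel.lift_ι _ _ _)).trans ((Γ i).map_comp _ _))).hom y)⟩)
      refine ⟨E, fun k hk x _ => ?_⟩
      have hx := hE k hk ⟨x, rfl⟩
      obtain ⟨y, hy, hyx⟩ : ∃ y ∈ ⨆ j, LinearMap.range ((Γ i).map ((T.rel D).m j k)).hom,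
          ((Γ i).map (kernel.ι (T.proj D (k + 1)))).hom y = ((Γ i).map (kernel.ι (T.proj D (k + 1)))).hom x := by
        refine Submodule.iSup_induction (motive := fun z => ∃ y ∈ ⨆ j, LinearMap.range ((Γ i).map ((T.rel D).m j k)).hom,
          ((Γ i).map (kernel.ι (T.proj D (k + 1)))).hom y = z) _ hx (fun j z hz => ?_) ⟨0, zero_mem _, map_zero _⟩ ?_
        · obtain ⟨_, ⟨w, rfl⟩, rfl⟩ := hz
          exact ⟨((Γ i).map ((T.rel D).m j k)).hom w, Submodule.mem_iSup_of_mem j ⟨w, rfl⟩,
            congr($(((Γ i).map_comp _ _).symm.trans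
            ((congrArg (Γ i).map (kernel.lift_ι _ _ _)).trans ((Γ i).map_comp _ _))).hom w)⟩
        · rintro a b ⟨y, hy, rfl⟩ ⟨y', hy', rfl⟩
          exact ⟨y + y', add_mem hy hy', map_add _ _ _⟩
      rwa [← hΓinj i _ hyx]
    have hgH := ih (q + 1) (T.rel D) hK hgK (by omega)
    haveI : ∀ k, Module.Finite A ((C.H (q + 1)).obj ((T.rel D).N k)) := fun k => hfin _ _ (hK k)
    obtain ⟨E, hE⟩ := stable_gen (M := fun k => (C.H (q + 1)).obj ((T.rel D).N k))
      (fun j k => ((C.H (q + 1)).map ((T.rel D).m j k)).hom)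
      (fun a b k x => congr($(((C.H (q + 1)).map_comp _ _).symm.trans
        ((congrArg (C.H (q + 1)).map ((T.rel D).comm a b k)).trans ((C.H (q + 1)).map_comp _ _))).hom x))
      hgH (fun k => LinearMap.range (C.δ (S k) (hS k) q))
      (fun j k x hx => by
        obtain ⟨y, rfl⟩ := hx
        exact ⟨((C.H q).map (T.m j k)).hom y, C.natural (S k) (S (k + 1)) (hS k) (hS (k + 1)) (φ j k) q y⟩)
    haveI := C.additive q
    obtain ⟨E', hE'⟩ := gen_free T D (C.H q)
    refine ⟨max E E', fun k hk x _ => ?_⟩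
    obtain ⟨y, hy, hyx⟩ : ∃ y ∈ ⨆ j, LinearMap.range ((C.H q).map (T.m j k)).hom,
        C.δ (S (k + 1)) (hS (k + 1)) q y = C.δ (S (k + 1)) (hS (k + 1)) q x := by
      refine Submodule.iSup_induction (motive := fun z => ∃ y ∈ ⨆ j, LinearMap.range ((C.H q).map (T.m j k)).hom,
        C.δ (S (k + 1)) (hS (k + 1)) q y = z) _ (hE k (le_of_max_le_left hk) ⟨x, rfl⟩) (fun j z hz => ?_)
        ⟨0, zero_mem _, map_zero _⟩ ?_
      · obtain ⟨_, ⟨w, rfl⟩, rfl⟩ := hz
        exact ⟨((C.H q).map (T.m j k)).hom w, Submodule.mem_iSup_of_mem j ⟨w, rfl⟩,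
          C.natural (S k) (S (k + 1)) (hS k) (hS (k + 1)) (φ j k) q w⟩
      · rintro a b ⟨y, hy, rfl⟩ ⟨y', hy', rfl⟩
        exact ⟨y + y', add_mem hy hy', map_add _ _ _⟩
    obtain ⟨z, hz⟩ := C.exact (S (k + 1)) (hS (k + 1)) q (x - y) (by rw [map_sub, hyx, sub_self])
    have hx : x = y + ((C.H q).map (T.proj D (k + 1))).hom z := eq_add_of_sub_eq' hz.symm
    rw [hx]
    refine add_mem hy ?_
    refine Submodule.iSup_induction (motive := fun w => ((C.H q).map (T.proj D (k + 1))).hom w ∈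
      ⨆ j, LinearMap.range ((C.H q).map (T.m j k)).hom) _ (hE' k (le_of_max_le_right hk) (show z ∈ ⊤ from trivial))
      (fun j w hw => ?_) (by rw [map_zero]; exact zero_mem _) fun a b ha hb => by rw [map_add]; exact add_mem ha hb
    obtain ⟨w, rfl⟩ := hw
    exact Submodule.mem_iSup_of_mem j ⟨((C.H q).map (T.proj D k)).hom w,
      congr($(((C.H q).map_comp _ _).symm.trans ((congrArg (C.H q).map (T.proj_m D j k).symm).trans
        ((C.H q).map_comp _ _))).hom w)⟩

end Groth.Agent.FProper
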