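import Groth.Agent.FProperLib.Finite
import Groth.Agent.FProperLib.TowerCoh
import Groth.Agent.FComplLib.AffQCSerre
import Groth.Agent.FComplLib.RpushBounded
import Groth.Agent.FComplLib.IndQC

/-!
# Coherent modules killed by the ideal of definition and generation of their cohomology
-/

set_option autoImplicit false
set_option linter.style.haveILetI false
set_option linter.unusedSectionVars false
set_option backward.isDefEq.respectTransparency false
set_option backward.isDefEq.respectTransparency.types false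
set_option maxHeartbeats 1000000

universe u

open CategoryTheory CategoryTheory.Limits AlgebraicGeometry TopologicalSpace Opposite
open Groth.Agent.CohBase

noncomputable section

namespace Groth.Agent.FProper

open Groth.Agent.FCompl

variable {𝔛 : FSch.Sys.{u}} {h : 𝔛.IsFormal}

/-- Coherent kernels. -/
theorem coh_kernel (hL : 𝔛.IsLocNoethFormal) {M N : FSch.ModF 𝔛 h} (g : M ⟶ N) (hM : FSch.IsCohF 𝔛 h M)
    (hN : FSch.IsCohF 𝔛 h N) : FSch.IsCohF 𝔛 h (kernel g) := by
  haveI : SheafOfModules.IsQuasicoherent.{u} (kernel g) :=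
    (affQC_kernel hL g (affQC_of_coh hL hM) (affQC_of_coh hL hN)).isQuasicoherent
  haveI := isFiniteType_of_mono hL hM (kernel.ι g)
  exact isCohF_of_qc_ft hL _

/-- Coherent cokernels. -/
theorem coh_cokernel (hL : 𝔛.IsLocNoethFormal) {M N : FSch.ModF 𝔛 h} (g : M ⟶ N) (hM : FSch.IsCohF 𝔛 h M)
    (hN : FSch.IsCohF 𝔛 h N) : FSch.IsCohF 𝔛 h (cokernel g) := by
  haveI : SheafOfModules.IsQuasicoherent.{u} (cokernel g) :=
    (affQC_cokernel hL g (affQC_of_coh hL hM) (affQC_of_coh hL hN)).isQuasicoherent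
  haveI : SheafOfModules.IsFinitePresentation (R := ModSite.ringSh (𝔛.Osh h)) N := hN
  haveI := isFiniteType_of_epi (cokernel.π g)
  exact isCohF_of_qc_ft hL _

section Gamma

variable (h) in
/-- Sections over an open. -/
def ΓF (U : (𝔛.X 0).Opens) : FSch.ModF 𝔛 h ⥤ ModuleCat.{u} (OR 𝔛 h U) :=
  SheafOfModules.evaluation (ModSite.ringSh (𝔛.Osh h)) (op U)

lemma ΓF_map (U : (𝔛.X 0).Opens) {M N : FSch.ModF 𝔛 h} (g : M ⟶ N) (x : M.val.obj (op U)) :
    ((ΓF h U).map g).hom x = (g.val.app (op U)).hom x := rfl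

instance additive_ΓF (U : (𝔛.X 0).Opens) : (ΓF h U).Additive := { map_add := rfl }

/-- Sections of a coherent module over an affine open form a finite module. -/
theorem finite_ΓF (hL : 𝔛.IsLocNoethFormal) {U : (𝔛.X 0).Opens} (hU : IsAffineOpen U) {M : FSch.ModF 𝔛 h}
    (hM : FSch.IsCohF 𝔛 h M) : Module.Finite (OR 𝔛 h U) ((ΓF h U).obj M) := by
  obtain ⟨hfin, -⟩ := mod_main (h := h) (sysOf M) hL (sysOf_isCoh M hM) hU
  haveI := eps_isIso hL hM
  haveI : Module.Finite (OR 𝔛 h U) ((ΓF h U).obj ((sysOf M).realMod h)) := hfin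
  exact Module.Finite.equiv ((ΓF h U).mapIso (asIso (eps M))).toLinearEquiv.symm

/-- Surjectivity on the sections over the members of an affine covering gives an epimorphism. -/
theorem epi_of_surjective (hL : 𝔛.IsLocNoethFormal) {ι : Type*} (U : ι → (𝔛.X 0).Opens)
    (haff : ∀ i, IsAffineOpen (U i)) (hcov : ⊤ ≤ iSup U) {M N : FSch.ModF 𝔛 h} (g : M ⟶ N)
    (hN : FSch.IsCohF 𝔛 h N) (hs : ∀ i, Function.Surjective (g.val.app (op (U i))).hom) : Epi g := by
  refine FPLocal.epi_of_exists_preimage _ fun W m => ?_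
  refine ⟨{ arrows := fun Z l => ∃ t, (g.val.app (op Z)).hom t = FPLocal.mres N l.op m
            downward_closed := fun {Y Z l} ⟨t, ht⟩ k => ⟨FPLocal.mres M k.op t, by
              rw [FPLocal.app_mres, ht, ← FPLocal.mres_comp]; rfl⟩ }, fun x hx => ?_, fun Z l hl => hl⟩
  obtain ⟨i, hi⟩ := Opens.mem_iSup.1 (hcov (show x ∈ (⊤ : (𝔛.X 0).Opens) from trivial))
  obtain ⟨I, K, _, _, s, c, hgen, -, -⟩ := hasRels_affine hL hN (haff i)
  choose t ht using fun j => hs i (s j)
  obtain ⟨S, hS, hS'⟩ := hgen (homOfLE (inf_le_right : W ⊓ U i ≤ U i)) (FPLocal.mres N (homOfLE inf_le_left).op m)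
  obtain ⟨Z, l, hl, hxZ⟩ := hS x ⟨hx, hi⟩
  obtain ⟨a, ha⟩ := hS' l hl
  refine ⟨Z, l ≫ homOfLE inf_le_left, ⟨∑ j, a j • FPLocal.mres M (l ≫ homOfLE inf_le_right).op (t j), ?_⟩, hxZ⟩
  rw [map_sum]
  refine Eq.trans (Finset.sum_congr rfl fun j _ => ?_) (ha.trans ?_)
  · rw [map_smul, FPLocal.app_mres, ht]
  · exact (FPLocal.mres_comp (M := N) _ _ m).symm

end Gamma

variable {A : Type u} [CommRing A] (J : Ideal A) (f : 𝔛 ⟶ FSch.spf A J)

/-- Coherent modules killed by the ideal of definition. -/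
def Killed (h : 𝔛.IsFormal) (M : FSch.ModF 𝔛 h) : Prop :=
  FSch.IsCohF 𝔛 h M ∧ ∀ a ∈ J, DerComp.smulEnd (ψ J f h a) M = 0

variable {J f}

theorem Killed.isT (hL : 𝔛.IsLocNoethFormal) (hf : FSch.IsAdicHom f) {M : FSch.ModF 𝔛 h} (hM : Killed J f h M) :
    IsT M := fun V s => (isTorsSect_iff s).2 ⟨⊤, GrothendieckTopology.top_mem _ _, fun Z l _ => ⟨0, by
  refine kb_of_affine fun Z' hZ' hZa a ha => ?_
  have h1 : a ∈ J.map (ψU J f h Z') := II_eq J f h hL hf hZa ▸ (RingHom.mem_ker.2 ha)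
  clear ha
  induction h1 using Submodule.span_induction with
  | mem y hy =>
    obtain ⟨b, hb, rfl⟩ := hy
    have e := congrArg (fun k : M ⟶ M => (k.val.app (op Z')).hom (FPLocal.mres M (homOfLE hZ').op (FPLocal.mres M l.op s)))
      (hM.2 b hb)
    exact e
  | zero => exact zero_smul _ _
  | add b c _ _ hb hc => rw [add_smul, hb, hc, add_zero]
  | smul r b _ hb => rw [smul_eq_mul, mul_smul, hb, smul_zero]⟩⟩

theorem Killed.kernel (hL : 𝔛.IsLocNoethFormal) {M N : FSch.ModF 𝔛 h} (g : M ⟶ N) (hM : Killed J f h M)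
    (hN : Killed J f h N) : Killed J f h (kernel g) :=
  ⟨coh_kernel hL g hM.1 hN.1, fun a ha => (cancel_mono (kernel.ι g)).1 (by
    rw [DerComp.smulEnd_comm, hM.2 a ha, comp_zero, zero_comp])⟩

theorem Killed.sigma (hL : 𝔛.IsLocNoethFormal) {α : Type} [Finite α] (F : α → FSch.ModF 𝔛 h)
    (H : ∀ a, Killed J f h (F a)) : Killed J f h (∐ F) := by
  refine ⟨?_, fun a ha => Sigma.hom_ext _ _ fun b => by
    rw [← DerComp.smulEnd_comm, (H b).2 a ha, zero_comp, comp_zero]⟩
  have h1 : FSch.IsCohF 𝔛 h (∐ fun b : ULift.{u} α => F b.down) := isCohF_sigma hL _ fun b => (H b.down).1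
  exact (SheafOfModules.isFinitePresentation (ModSite.ringSh (𝔛.Osh h))).prop_of_iso
    (Sigma.whiskerEquiv (f := fun b : ULift.{u} α => F b.down) (g := F) Equiv.ulift fun b => Iso.refl _) h1

/-- Cohomology vanishes in high degrees. -/
theorem exists_vanishing (hL : 𝔛.IsLocNoethFormal) [CompactSpace (𝔛.X 0)] :
    ∃ t : ℕ, ∀ q, t ≤ q → ∀ M : FSch.ModF 𝔛 h, FSch.IsCohF 𝔛 h M → Subsingleton (HS (ψ J f h) q M) := by
  haveI := noetherianSpace_zero hL
  obtain ⟨t, ht⟩ := exists_cd (AffQCSh h) (fun hW S hS n => affQCSh_vanish hL hW S hS n) (⊤ : (𝔛.X 0).Opens)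
  refine ⟨t, fun q hq M hM => ?_⟩
  haveI := ht _ ⟨M, affQC_of_coh hL hM, rfl⟩ q hq
  exact (HEquiv (TS M) q).toEquiv.subsingleton

variable [IsNoetherianRing A] {σ : Type} [Finite σ]

/-- The cohomology of a generated tower of coherent modules killed by the ideal is generated. -/
theorem gen_HS (hL : 𝔛.IsLocNoethFormal) (h𝔜 : (FSch.spf A J).IsLocNoethFormal) (hf : FSch.IsProperHom f)
    {ι : Type} [Finite ι] (U : ι → (𝔛.X 0).Opens) (haff : ∀ i, IsAffineOpen (U i)) (hcov : ⊤ ≤ iSup U)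
    (T : Tower (FSch.ModF 𝔛 h) σ) (hT : ∀ k, Killed J f h (T.N k))
    (hg : ∀ i, Gen (M := fun k => (ΓF h (U i)).obj (T.N k)) (fun j k => ((ΓF h (U i)).map (T.m j k)).hom)) (q : ℕ) :
    Gen (M := fun k => HS (ψ J f h) q (T.N k)) (fun j k => HAmap (ψ J f h) q (T.m j k)) := by
  haveI := compactSpace_of_proper J f hf
  obtain ⟨t, ht⟩ := exists_vanishing (h := h) (J := J) (f := f) hL
  haveI : ∀ i, IsNoetherianRing (OR 𝔛 h (U i)) := fun i => noetherian hL (haff i)
  exact gen_cohomology (cohTh (ψ J f h)) (Killed J f h) (fun i => OR 𝔛 h (U i)) (fun i => ΓF h (U i))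
    (fun F H => Killed.sigma hL F H) (fun g hM hN => Killed.kernel hL g hM hN)
    (fun q M hM => finite_HS J f h hL h𝔜 hf hM.1 (hM.isT hL hf.1) q)
    (fun i M hM => finite_ΓF hL (haff i) hM.1)
    (fun i {M N} g => FPLocal.app_injective_of_mono (kernel.ι g) (U i))
    (fun i {M N} g x hx => FPLocal.exists_kernel_preimage g x hx)
    (fun {M N} g _ hN hs => epi_of_surjective hL U haff hcov g hN.1 hs)
    t (fun q hq M hM => ht q hq M hM.1) q T hT hg

end Groth.Agent.FProper
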