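import Groth.Agent.FProperLib.GradedNoeth

/-!
# Boundaries in a complete filtered complex with finite graded cohomology
-/

set_option autoImplicit false
set_option linter.unusedSectionVars false

universe u

namespace Groth.Agent.FProper

variable {A : Type u} [CommRing A] [IsNoetherianRing A] {P C D : Type u} [AddCommGroup P] [AddCommGroup C]
  [AddCommGroup D] [Module A P] [Module A C] [Module A D] (d : P →ₗ[A] C) (e : C →ₗ[A] D)
  (FP : ℕ → Submodule A P) (FC : ℕ → Submodule A C) (FD : ℕ → Submodule A D)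
  {σ : Type} [Finite σ] (a : σ → A) {H : ℕ → Type u} [∀ k, AddCommGroup (H k)] [∀ k, Module A (H k)]
  [∀ k, Module.Finite A (H k)] (f : σ → ∀ k, H k →ₗ[A] H (k + 1))
  (hcomm : ∀ (i j : σ) k (x : H k), f i (k + 1) (f j k x) = f j (k + 1) (f i k x)) (hgen : Gen f)
  (hed : ∀ b, e (d b) = 0) (hd : ∀ k, ∀ b ∈ FP k, d b ∈ FC k)
  (hP0 : FP 0 = ⊤) (hPanti : Antitone FP)
  (haP : ∀ j k, ∀ b ∈ FP k, a j • b ∈ FP (k + 1)) (haC : ∀ j k, ∀ z ∈ FC k, a j • z ∈ FC (k + 1))
  (cl : ∀ k, ↥(FC k ⊓ (FD (k + 1)).comap e) →ₗ[A] H k)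
  (hcl : ∀ k z, cl k z = 0 → ∃ b ∈ FP k, z.1 - d b ∈ FC (k + 1))
  (hclf : ∀ j k (z : ↥(FC k ⊓ (FD (k + 1)).comap e)) (w : ↥(FC (k + 1) ⊓ (FD (k + 1 + 1)).comap e)),
    w.1 = a j • z.1 → f j k (cl k z) = cl (k + 1) w)
  (hsum : ∀ b : ℕ → P, (∀ n, b n ∈ FP n) → ∃ s, ∀ n, s - ∑ l ∈ Finset.range n, b l ∈ FP n)
  (hsep : ∀ z, (∀ k, z ∈ FC k) → z = 0) (hCanti : Antitone FC)

include hcomm hgen hed hd hP0 hPanti haP haC hcl hclf hsum hsep hCanti

/-- Boundaries deep in the filtration bound a deep chain. -/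
theorem exists_exact_bound : ∃ c, ∀ (k : ℕ) (b : P), d b ∈ FC k → ∃ b' ∈ FP (k - c), d b' = d b := by
  classical
  let Z : ∀ k, Submodule A ↥(FC k ⊓ (FD (k + 1)).comap e) → Submodule A (H k) := fun k S => S.map (cl k)
  let S : ℕ → ∀ k, Submodule A (H k) := fun s k =>
    Z k (((FP (k - s)).map d).comap (FC k ⊓ (FD (k + 1)).comap e).subtype)
  have hS : ∀ s j k x, x ∈ S s k → f j k x ∈ S s (k + 1) := by
    rintro s j k _ ⟨z, hz, rfl⟩
    obtain ⟨b, hb, hbz⟩ := hz
    have hw : a j • z.1 ∈ FC (k + 1) ⊓ (FD (k + 1 + 1)).comap e := by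
      refine ⟨haC j k _ z.2.1, ?_⟩
      show e (a j • z.1) ∈ FD (k + 1 + 1)
      rw [show z.1 = d b from hbz.symm, ← map_smul, hed]
      exact zero_mem _
    refine ⟨⟨_, hw⟩, ⟨a j • b, ?_, ?_⟩, (hclf j k z ⟨_, hw⟩ rfl).symm⟩
    · exact hPanti (by omega : k + 1 - s ≤ k - s + 1) (haP j (k - s) b hb)
    · show d (a j • b) = a j • z.1
      rw [map_smul, show d b = z.1 from hbz]
  have hmono : ∀ s k, S s k ≤ S (s + 1) k := fun s k =>
    Submodule.map_mono (Submodule.comap_mono (Submodule.map_mono (hPanti (by omega : k - (s + 1) ≤ k - s))))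
  obtain ⟨c, hc⟩ := stable_stationary f hcomm hgen (S := S) hS hmono
  -- one step
  have hstep : ∀ (m : ℕ) (b : P), d b ∈ FC m → ∃ b' ∈ FP (m - c), d (b - b') ∈ FC (m + 1) := by
    intro m b hb
    have hz : d b ∈ FC m ⊓ (FD (m + 1)).comap e := ⟨hb, by
      show e (d b) ∈ FD (m + 1)
      rw [hed]; exact zero_mem _⟩
    have h1 : cl m ⟨d b, hz⟩ ∈ S (max c m) m := by
      refine ⟨⟨d b, hz⟩, ⟨b, ?_, rfl⟩, rfl⟩
      rw [Nat.sub_eq_zero_of_le (le_max_right c m), hP0]
      trivial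
    rw [hc (max c m) (le_max_left c m)] at h1
    obtain ⟨z', ⟨b', hb', hbz'⟩, hcl'⟩ := h1
    obtain ⟨r, hr, hr'⟩ := hcl m (⟨d b, hz⟩ - z') (by rw [map_sub, hcl', sub_self])
    refine ⟨b' + r, add_mem hb' (hPanti (Nat.sub_le m c) hr), ?_⟩
    rw [map_sub, map_add, show d b' = z'.1 from hbz']
    rw [show d b - (z'.1 + d r) = (d b - z'.1) - d r by abel]
    exact hr'
  refine ⟨c, fun k b hb => ?_⟩
  by_cases hkc : k < c
  · exact ⟨b, by rw [Nat.sub_eq_zero_of_le hkc.le, hP0]; trivial, rfl⟩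
  choose g hg hg' using hstep
  -- the successive remainders
  let seq : ∀ n, {x : P // d x ∈ FC (k + n)} := fun n =>
    Nat.rec (motive := fun n => {x : P // d x ∈ FC (k + n)}) ⟨b, hb⟩
      (fun n x => ⟨x.1 - g (k + n) x.1 x.2, hg' (k + n) x.1 x.2⟩) n
  let β : ℕ → P := fun l => if h : k - c ≤ l then
      (if l + c - k < 0 then 0 else g (k + (l - (k - c))) (seq (l - (k - c))).1 (seq (l - (k - c))).2) else 0
  have hβ : ∀ n, β (k - c + n) = g (k + n) (seq n).1 (seq n).2 := fun n => by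
    simp only [β, dif_pos (Nat.le_add_right (k - c) n), Nat.not_lt_zero, if_false]
    rw [Nat.add_sub_cancel_left]
  have hβmem : ∀ l, β l ∈ FP l := by
    intro l
    by_cases h : k - c ≤ l
    · obtain ⟨n, rfl⟩ := Nat.exists_eq_add_of_le h
      rw [hβ]
      rw [show k - c + n = k + n - c by omega]
      exact hg (k + n) _ _
    · simp only [β, dif_neg h]
      exact zero_mem _
  obtain ⟨s, hs⟩ := hsum β hβmem
  refine ⟨s, ?_, ?_⟩
  · have h1 := hs (k - c)
    rwa [Finset.sum_eq_zero (fun l hl => by simp only [β, dif_neg (by have := Finset.mem_range.1 hl; omega : ¬ k - c ≤ l)]),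
      sub_zero] at h1
  · refine (sub_eq_zero.1 (hsep _ fun m => ?_)).symm
    have hsumeq : ∀ n, (seq n).1 + ∑ l ∈ Finset.range (k - c + n), β l = b := by
      intro n
      induction n with
      | zero =>
        rw [Finset.sum_eq_zero (fun l hl => by
          simp only [β, dif_neg (by have := Finset.mem_range.1 hl; omega : ¬ k - c ≤ l)]), add_zero]
        rfl
      | succ n ih =>
        show (seq n).1 - g (k + n) _ (seq n).2 + ∑ l ∈ Finset.range (k - c + n + 1), β l = b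
        rw [Finset.sum_range_succ, hβ]
        refine Eq.trans ?_ ih
        abel
    have h1 := hs (k - c + m)
    have h2 : d b - d s = d (seq m).1 - d (s - ∑ l ∈ Finset.range (k - c + m), β l) := by
      rw [← hsumeq m, map_add, map_sub]
      abel
    rw [h2]
    exact sub_mem (hCanti (by omega) (seq m).2) (hCanti (by omega) (hd _ _ h1))

end Groth.Agent.FProper
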