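import Groth.Agent.FProperLib.Ops
import Groth.Agent.FProperLib.FiltCx

/-!
# The filtered Čech complex of a coherent module on a proper formal scheme
-/

set_option autoImplicit false
set_option linter.style.haveILetI false
set_option linter.unusedSectionVars false
set_option backward.isDefEq.respectTransparency false
set_option backward.isDefEq.respectTransparency.types false
set_option maxHeartbeats 1000000

universe u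

open CategoryTheory CategoryTheory.Limits AlgebraicGeometry TopologicalSpace Opposite
open Groth.Agent.CohBase

noncomputable section

namespace Groth.Agent.FProper

open Groth.Agent.FCompl

variable {A : Type u} [CommRing A] {𝔛 : FSch.Sys.{u}} {h : 𝔛.IsFormal}

section Cpt

variable (φ : A →+* DerComp.GSec (𝔛.Osh h)) {ι : Type u} (U : ι → (𝔛.X 0).Opens)

/-- A component of a cochain. -/
def cpt {q : ℕ} {M : FSch.ModF 𝔛 h} (z : CA φ U q M) (i : Fin (q + 1) → ι) : M.val.obj (op (inter U i)) :=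
  (show CC U (TS M).obj q from z) i

lemma cpt_ext {q : ℕ} {M : FSch.ModF 𝔛 h} {z w : CA φ U q M} (H : ∀ i, cpt φ U z i = cpt φ U w i) : z = w :=
  funext H

lemma cpt_zero {q : ℕ} {M : FSch.ModF 𝔛 h} (i : Fin (q + 1) → ι) : cpt φ U (0 : CA φ U q M) i = 0 := rfl

lemma cpt_add {q : ℕ} {M : FSch.ModF 𝔛 h} (z w : CA φ U q M) (i : Fin (q + 1) → ι) :
    cpt φ U (z + w) i = cpt φ U z i + cpt φ U w i := rfl

lemma cpt_sub {q : ℕ} {M : FSch.ModF 𝔛 h} (z w : CA φ U q M) (i : Fin (q + 1) → ι) :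
    cpt φ U (z - w) i = cpt φ U z i - cpt φ U w i := rfl

lemma cpt_sum {q : ℕ} {M : FSch.ModF 𝔛 h} {κ : Type*} (s : Finset κ) (b : κ → CA φ U q M) (i : Fin (q + 1) → ι) :
    cpt φ U (∑ l ∈ s, b l) i = ∑ l ∈ s, cpt φ U (b l) i :=
  map_sum (AddMonoidHom.mk' (fun z : CA φ U q M => cpt φ U z i) fun _ _ => rfl) b s

lemma cpt_smul {q : ℕ} {M : FSch.ModF 𝔛 h} (a : A) (z : CA φ U q M) (i : Fin (q + 1) → ι) :
    cpt φ U (a • z) i = (φ a).1 (inter U i) • cpt φ U z i := rfl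

lemma cpt_CAmap {q : ℕ} {M N : FSch.ModF 𝔛 h} (g : M ⟶ N) (z : CA φ U q M) (i : Fin (q + 1) → ι) :
    cpt φ U (CAmap φ U q g z) i = (g.val.app (op (inter U i))).hom (cpt φ U z i) := rfl

lemma CAmap_comp {q : ℕ} {M N P : FSch.ModF 𝔛 h} (g : M ⟶ N) (g' : N ⟶ P) (z : CA φ U q M) :
    CAmap φ U q (g ≫ g') z = CAmap φ U q g' (CAmap φ U q g z) := cpt_ext φ U fun _ => rfl

/-- Cochains in a step of the filtration. -/
def CF (𝔉 : FSch.ModF 𝔛 h) (q k : ℕ) : Submodule A (CA φ U q 𝔉) := LinearMap.ker (CAmap φ U q (prj' 𝔉 k))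

variable (𝔉 : FSch.ModF 𝔛 h)

lemma mem_CF {q k : ℕ} {z : CA φ U q 𝔉} :
    z ∈ CF φ U 𝔉 q k ↔ ∀ i, ((prj' 𝔉 k).val.app (op (inter U i))).hom (cpt φ U z i) = 0 :=
  ⟨fun hz i => congrFun (show CAmap φ U q (prj' 𝔉 k) z = 0 from hz) i, fun H => cpt_ext φ U H⟩

lemma CF_zero (q : ℕ) : CF φ U 𝔉 q 0 = ⊤ := top_le_iff.1 fun _ _ => (mem_CF φ U 𝔉).2 fun _ => rfl

lemma CF_anti (q : ℕ) : Antitone (CF φ U 𝔉 q) := fun _ _ hjk _ hz =>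
  (mem_CF φ U 𝔉).2 fun i => prj'_eq_zero_of_le hjk ((mem_CF φ U 𝔉).1 hz i)

lemma dA_mem_CF (q k : ℕ) {z : CA φ U q 𝔉} (hz : z ∈ CF φ U 𝔉 q k) : dA φ U q 𝔉 z ∈ CF φ U 𝔉 (q + 1) k := by
  show CAmap φ U (q + 1) (prj' 𝔉 k) _ = 0
  rw [← dA_CAmap, show CAmap φ U q (prj' 𝔉 k) z = 0 from hz, map_zero]

lemma flι_mem_CF (q k : ℕ) (y : CA φ U q (Fl 𝔉 k)) : CAmap φ U q (flι 𝔉 k) y ∈ CF φ U 𝔉 q k :=
  (mem_CF φ U 𝔉).2 fun i =>
    congrArg (fun g : Fl 𝔉 k ⟶ lvl 𝔉 (k - 1) => (g.val.app (op (inter U i))).hom (cpt φ U y i)) (flι_prj' 𝔉 k)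

lemma CAmap_injective {q : ℕ} {M N : FSch.ModF 𝔛 h} (g : M ⟶ N) [Mono g] : Function.Injective (CAmap φ U q g) :=
  fun y y' e => cpt_ext φ U fun i => FPLocal.app_injective_of_mono g _ (congrFun e i)

/-- A step of the filtration as cochains. -/
def flEquiv (q k : ℕ) : CA φ U q (Fl 𝔉 k) ≃ₗ[A] CF φ U 𝔉 q k :=
  LinearEquiv.ofBijective ((CAmap φ U q (flι 𝔉 k)).codRestrict _ (flι_mem_CF φ U 𝔉 q k)) ⟨fun y y' e =>
    CAmap_injective φ U (flι 𝔉 k) (congrArg Subtype.val e), fun z => by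
      choose y hy using fun i => FPLocal.exists_kernel_preimage (prj' 𝔉 k) (cpt φ U z.1 i) ((mem_CF φ U 𝔉).1 z.2 i)
      exact ⟨y, Subtype.ext (cpt_ext φ U hy)⟩⟩

lemma flEquiv_val (q k : ℕ) (y : CA φ U q (Fl 𝔉 k)) : (flEquiv φ U 𝔉 q k y).1 = CAmap φ U q (flι 𝔉 k) y := rfl

lemma flι_symm (q k : ℕ) (z : CF φ U 𝔉 q k) : CAmap φ U q (flι 𝔉 k) ((flEquiv φ U 𝔉 q k).symm z) = z.1 := by
  rw [← flEquiv_val, LinearEquiv.apply_symm_apply]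

/-- The symbol of a cochain. -/
def toGr (q k : ℕ) : CF φ U 𝔉 q k →ₗ[A] CA φ U q (Gr 𝔉 k) :=
  (CAmap φ U q (grπ 𝔉 k)).comp (flEquiv φ U 𝔉 q k).symm.toLinearMap

lemma toGr_eq_zero (q k : ℕ) (z : CF φ U 𝔉 q k) (hz : toGr φ U 𝔉 q k z = 0) : z.1 ∈ CF φ U 𝔉 q (k + 1) := by
  have e : ∀ i, ∃ w, ((incl 𝔉 k).val.app (op (inter U i))).hom w = cpt φ U ((flEquiv φ U 𝔉 q k).symm z) i :=
    fun i => sections_exact (toSheaf_SE (grSeq_shortExact 𝔉 k)) (inter U i) _ (congrFun hz i)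
  choose w hw using e
  refine (mem_CF φ U 𝔉).2 fun i => ?_
  rw [← flι_symm φ U 𝔉 q k z, cpt_CAmap, ← hw i]
  have e1 : ((flι 𝔉 k).val.app (op (inter U i))).hom (((incl 𝔉 k).val.app (op (inter U i))).hom (w i)) =
      ((flι 𝔉 (k + 1)).val.app (op (inter U i))).hom (w i) :=
    congrArg (fun g : Fl 𝔉 (k + 1) ⟶ 𝔉 => (g.val.app (op (inter U i))).hom (w i)) (incl_flι 𝔉 k)
  rw [e1]
  exact congrArg (fun g : Fl 𝔉 (k + 1) ⟶ lvl 𝔉 k => (g.val.app (op (inter U i))).hom (w i)) (flι_prj' 𝔉 (k + 1))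

lemma toGr_of_mem (q k : ℕ) (z : CF φ U 𝔉 q k) (hz : z.1 ∈ CF φ U 𝔉 q (k + 1)) : toGr φ U 𝔉 q k z = 0 := by
  let w := (flEquiv φ U 𝔉 q (k + 1)).symm ⟨z.1, hz⟩
  have hw : CAmap φ U q (incl 𝔉 k) w = (flEquiv φ U 𝔉 q k).symm z := by
    refine CAmap_injective φ U (flι 𝔉 k) ?_
    rw [← CAmap_comp, incl_flι, flι_symm, flι_symm]
  show CAmap φ U q (grπ 𝔉 k) ((flEquiv φ U 𝔉 q k).symm z) = 0
  rw [← hw, ← CAmap_comp]
  exact cpt_ext φ U fun i =>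
    congrArg (fun g : Fl 𝔉 (k + 1) ⟶ Gr 𝔉 k => (g.val.app (op (inter U i))).hom (cpt φ U w i)) (cokernel.condition _)

lemma dA_toGr (q k : ℕ) (z : CF φ U 𝔉 q k) :
    dA φ U q (Gr 𝔉 k) (toGr φ U 𝔉 q k z) =
      toGr φ U 𝔉 (q + 1) k ⟨dA φ U q 𝔉 z.1, dA_mem_CF φ U 𝔉 q k z.2⟩ := by
  refine (dA_CAmap φ U q (grπ 𝔉 k) _).trans (congrArg (CAmap φ U (q + 1) (grπ 𝔉 k)) ?_)
  refine CAmap_injective φ U (flι 𝔉 k) ?_
  refine ((dA_CAmap φ U q (flι 𝔉 k) _).symm.trans ?_)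
  exact (congrArg (dA φ U q 𝔉) (flι_symm φ U 𝔉 q k z)).trans
    (flι_symm φ U 𝔉 (q + 1) k ⟨dA φ U q 𝔉 z.1, dA_mem_CF φ U 𝔉 q k z.2⟩).symm

/-- Cocycles modulo the next step. -/
abbrev ZF (q k : ℕ) : Submodule A (CA φ U q 𝔉) :=
  CF φ U 𝔉 q k ⊓ (CF φ U 𝔉 (q + 1) (k + 1)).comap (dA φ U q 𝔉)

/-- The symbol of a cocycle modulo the next step. -/
def toZGr (q k : ℕ) : ZF φ U 𝔉 q k →ₗ[A] LinearMap.ker (dA φ U q (Gr 𝔉 k)) :=
  ((toGr φ U 𝔉 q k).comp (Submodule.inclusion inf_le_left)).codRestrict _ fun z => by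
    show dA φ U q (Gr 𝔉 k) (toGr φ U 𝔉 q k _) = 0
    rw [dA_toGr]
    exact toGr_of_mem φ U 𝔉 (q + 1) k _ z.2.2

variable (hcov : ⊤ ≤ iSup U)

/-- The class of the symbol. -/
def clF (q k : ℕ) (hac : Acyclic U (TS (Gr 𝔉 k))) : ZF φ U 𝔉 q k →ₗ[A] HS φ q (Gr 𝔉 k) :=
  (clA φ U hcov hac q).comp (toZGr φ U 𝔉 q k)

end Cpt

section Bound

variable (J : Ideal A) (f : 𝔛 ⟶ FSch.spf A J) {ι : Type u} (U : ι → (𝔛.X 0).Opens)
  (hL : 𝔛.IsLocNoethFormal) {𝔉 : FSch.ModF 𝔛 h} (h𝔉 : FSch.IsCohF 𝔛 h 𝔉)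
  (haff : ∀ (m : ℕ) (i : Fin (m + 1) → ι), IsAffineOpen (inter U i))

include hL in
lemma acyclic_coh {M : FSch.ModF 𝔛 h} (hM : FSch.IsCohF 𝔛 h M)
    (haff : ∀ (m : ℕ) (i : Fin (m + 1) → ι), IsAffineOpen (inter U i)) : Acyclic U (TS M) :=
  fun _ i m => subsingleton_HU_of_affQC hL (affQC_of_coh hL hM) (haff _ i) m

variable (φ : A →+* DerComp.GSec (𝔛.Osh h))

include hL h𝔉 haff in
lemma exists_toGr_eq (q k : ℕ) (w : CA φ U q (Gr 𝔉 k)) : ∃ z, toGr φ U 𝔉 q k z = w := by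
  choose y hy using fun i =>
    surjective_of_shortExact hL (grSeq_shortExact 𝔉 k) (coh_Fl hL h𝔉 (k + 1)) (haff q i) (cpt φ U w i)
  refine ⟨flEquiv φ U 𝔉 q k y, cpt_ext φ U fun i => ?_⟩
  show ((grπ 𝔉 k).val.app _).hom (cpt φ U ((flEquiv φ U 𝔉 q k).symm (flEquiv φ U 𝔉 q k y)) i) = _
  rw [LinearEquiv.symm_apply_apply]
  exact hy i

include hL h𝔉 in
lemma CF_sum (q : ℕ) (b : ℕ → CA φ U q 𝔉) (hb : ∀ n, b n ∈ CF φ U 𝔉 q n) :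
    ∃ s, ∀ n, s - ∑ l ∈ Finset.range n, b l ∈ CF φ U 𝔉 q n := by
  choose s hs using fun i => exists_of_compatible hL h𝔉 (V := inter U i) (fun n => cpt φ U (b n) i)
    fun n => (mem_CF φ U 𝔉).1 (hb n) i
  refine ⟨(show CA φ U q 𝔉 from s), fun n => (mem_CF φ U 𝔉).2 fun i => ?_⟩
  rw [cpt_sub, cpt_sum]
  exact hs i n

include hL h𝔉 in
lemma CF_sep (q : ℕ) (z : CA φ U q 𝔉) (hz : ∀ k, z ∈ CF φ U 𝔉 q k) : z = 0 :=
  cpt_ext φ U fun i => eq_zero_of_prj hL h𝔉 fun k => (mem_CF φ U 𝔉).1 (hz k) i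

include hL h𝔉 haff in
lemma smul_mem_CF (hf : FSch.IsAdicHom f) (q k : ℕ) {a : A} (ha : a ∈ J) {z : CA (ψ J f h) U q 𝔉}
    (hz : z ∈ CF (ψ J f h) U 𝔉 q k) : a • z ∈ CF (ψ J f h) U 𝔉 q (k + 1) :=
  (mem_CF _ U 𝔉).2 fun i => smul_mem_succ J f hL hf h𝔉 (haff q i) ha ((mem_CF _ U 𝔉).1 hz i)

variable [IsNoetherianRing A] (hcov : ⊤ ≤ iSup U)

include hL h𝔉 haff hcov in
/-- Boundaries deep in the filtration bound deep cochains. -/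
theorem exists_bound (h𝔜 : (FSch.spf A J).IsLocNoethFormal) (hf : FSch.IsProperHom f) [Finite ι] (q : ℕ) :
    ∃ c, ∀ (k : ℕ) (b : CA (ψ J f h) U q 𝔉), dA (ψ J f h) U q 𝔉 b ∈ CF (ψ J f h) U 𝔉 (q + 1) k →
      ∃ b' ∈ CF (ψ J f h) U 𝔉 q (k - c), dA (ψ J f h) U q 𝔉 b' = dA (ψ J f h) U q 𝔉 b := by
  classical
  obtain ⟨s, a, hspan⟩ := Submodule.fg_iff_exists_fin_generating_family.1 (IsNoetherian.noetherian J)
  have ha : ∀ j, a j ∈ J := fun j => by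
    have e : a j ∈ Submodule.span A (Set.range a) := Submodule.subset_span ⟨j, rfl⟩
    rwa [hspan] at e
  let T := grTower J f hL hf.1 h𝔉 a ha
  have hK : ∀ k, Killed J f h (T.N k) := killed_Gr J f hL hf.1 h𝔉
  haveI := compactSpace_of_proper J f hf
  haveI : ∀ k, Module.Finite A (HS (ψ J f h) (q + 1) (T.N k)) := fun k =>
    finite_HS J f h hL h𝔜 hf (hK k).1 ((hK k).isT hL hf.1) _
  let e := Finite.equivFin ι
  have hgen := gen_HS hL h𝔜 hf (fun i : Fin (Nat.card ι) => inter U (fun _ : Fin 1 => e.symm i))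
    (fun i => haff 0 _) (fun x hx => by
      obtain ⟨i, hi⟩ := Opens.mem_iSup.1 (hcov hx)
      refine Opens.mem_iSup.2 ⟨e i, ?_⟩
      rw [Equiv.symm_apply_apply]
      rw [← inter_const (U := U) i]
      exact hi) T hK
    (fun i => gen_ΓF J f hL hf.1 h𝔉 a ha hspan (haff 0 _)) (q + 1)
  have hac : ∀ k, Acyclic U (TS (Gr 𝔉 k)) := fun k => acyclic_coh U hL (coh_Gr hL h𝔉 k) haff
  refine exists_exact_bound (dA (ψ J f h) U q 𝔉) (dA (ψ J f h) U (q + 1) 𝔉) (CF (ψ J f h) U 𝔉 q)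
    (CF (ψ J f h) U 𝔉 (q + 1)) (CF (ψ J f h) U 𝔉 (q + 1 + 1)) a
    (H := fun k => HS (ψ J f h) (q + 1) (T.N k)) (fun j k => HAmap (ψ J f h) (q + 1) (T.m j k))
    (fun i j k x => ?_) hgen (fun b => dA_dA (ψ J f h) U q 𝔉 b) (fun k b hb => dA_mem_CF _ U 𝔉 q k hb)
    (CF_zero _ U 𝔉 q) (CF_anti _ U 𝔉 q) (fun j k b hb => smul_mem_CF J f U hL h𝔉 haff hf.1 q k (ha j) hb)
    (fun j k z hz => smul_mem_CF J f U hL h𝔉 haff hf.1 (q + 1) k (ha j) hz)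
    (fun k => clF (ψ J f h) U 𝔉 hcov (q + 1) k (hac k)) (fun k z hz => ?_) (fun j k z w hw => ?_)
    (CF_sum U hL h𝔉 _ q) (CF_sep U hL h𝔉 _ (q + 1)) (CF_anti _ U 𝔉 (q + 1))
  · exact congr($(((HAF (ψ J f h) (q + 1)).map_comp (T.m j k) (T.m i (k + 1))).symm.trans
      ((congrArg (HAF (ψ J f h) (q + 1)).map (T.comm i j k)).trans
        ((HAF (ψ J f h) (q + 1)).map_comp (T.m i k) (T.m j (k + 1))))).hom x)
  · obtain ⟨b, hb⟩ := (clA_succ_eq_zero (ψ J f h) U hcov (hac k) q _).1 hz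
    obtain ⟨w, rfl⟩ := exists_toGr_eq U hL h𝔉 haff (ψ J f h) q k b
    rw [dA_toGr] at hb
    refine ⟨w.1, w.2, ?_⟩
    exact toGr_eq_zero (ψ J f h) U 𝔉 (q + 1) k
      ⟨z.1 - dA (ψ J f h) U q 𝔉 w.1, sub_mem z.2.1 (dA_mem_CF _ U 𝔉 q k w.2)⟩ (by
        rw [show (⟨z.1 - dA (ψ J f h) U q 𝔉 w.1, _⟩ : CF (ψ J f h) U 𝔉 (q + 1) k) =
          (⟨z.1, z.2.1⟩ : CF (ψ J f h) U 𝔉 (q + 1) k) - ⟨dA (ψ J f h) U q 𝔉 w.1, dA_mem_CF _ U 𝔉 q k w.2⟩ from rfl,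
          map_sub, sub_eq_zero]
        exact hb.symm)
  · refine HAmap_clA (ψ J f h) U hcov (hac k) (hac (k + 1)) (q + 1) (mGr J f hL hf.1 h𝔉 k (ha j)) _ _ ?_
    show CAmap (ψ J f h) U (q + 1) (grπ 𝔉 (k + 1)) ((flEquiv (ψ J f h) U 𝔉 (q + 1) (k + 1)).symm ⟨w.1, w.2.1⟩) =
      CAmap (ψ J f h) U (q + 1) (mGr J f hL hf.1 h𝔉 k (ha j))
        (CAmap (ψ J f h) U (q + 1) (grπ 𝔉 k) ((flEquiv (ψ J f h) U 𝔉 (q + 1) k).symm ⟨z.1, z.2.1⟩))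
    rw [← CAmap_comp (ψ J f h) U (grπ 𝔉 k), grπ_mGr, CAmap_comp]
    refine congrArg (CAmap (ψ J f h) U (q + 1) (grπ 𝔉 (k + 1))) ?_
    refine CAmap_injective (ψ J f h) U (flι 𝔉 (k + 1)) ?_
    rw [flι_symm, ← CAmap_comp, mFl_flι, CAmap_comp, flι_symm]
    exact hw

end Bound

end Groth.Agent.FProper
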