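import Groth.Agent.FProperLib.TowerCoh
import Groth.Agent.FExistLib.CechCl
import Groth.Agent.FComplLib.RpushVanish
import Groth.Prelude.Def_DerComp

/-!
# Cohomology and cochains of modules over a formal scheme as modules over a ring of global sections
-/

set_option autoImplicit false
set_option linter.style.haveILetI false
set_option linter.unusedSectionVars false
set_option backward.isDefEq.respectTransparency false
set_option backward.isDefEq.respectTransparency.types false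
set_option maxHeartbeats 1000000

universe u

open CategoryTheory CategoryTheory.Limits AlgebraicGeometry TopologicalSpace Opposite
open Groth.Agent.CohBase

noncomputable section

namespace Groth.Agent.FProper

variable {A : Type u} [CommRing A] {𝔛 : FSch.Sys.{u}} {h : 𝔛.IsFormal}
  (φ : A →+* DerComp.GSec (𝔛.Osh h))

/-- The underlying abelian sheaf. -/
abbrev TS (M : FSch.ModF 𝔛 h) : AbSh ↥(𝔛.X 0) := (SheafOfModules.toSheaf (ModSite.ringSh (𝔛.Osh h))).obj M

/-- A scalar as an endomorphism of the abelian sheaf. -/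
def act (a : A) (M : FSch.ModF 𝔛 h) : TS M ⟶ TS M :=
  (SheafOfModules.toSheaf (ModSite.ringSh (𝔛.Osh h))).map (DerComp.smulEnd (φ a) M)

lemma act_one (M : FSch.ModF 𝔛 h) : act φ 1 M = 𝟙 _ := by
  rw [act, map_one, DerComp.smulEnd_one, CategoryTheory.Functor.map_id]

lemma act_zero (M : FSch.ModF 𝔛 h) : act φ 0 M = 0 := by
  rw [act, map_zero, DerComp.smulEnd_zero, Functor.map_zero]

lemma act_add (a b : A) (M : FSch.ModF 𝔛 h) : act φ (a + b) M = act φ a M + act φ b M := by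
  rw [act, map_add, DerComp.smulEnd_add, Functor.map_add]
  rfl

lemma act_mul (a b : A) (M : FSch.ModF 𝔛 h) : act φ (a * b) M = act φ b M ≫ act φ a M := by
  rw [act, act, act, ← Functor.map_comp, DerComp.smulEnd_comp, ← map_mul, mul_comm a b]

lemma act_natural (a : A) {M N : FSch.ModF 𝔛 h} (g : M ⟶ N) :
    act φ a M ≫ (SheafOfModules.toSheaf (ModSite.ringSh (𝔛.Osh h))).map g =
      (SheafOfModules.toSheaf (ModSite.ringSh (𝔛.Osh h))).map g ≫ act φ a N := by
  rw [act, act, ← Functor.map_comp, ← Functor.map_comp, DerComp.smulEnd_comm]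

/-- Scalars acting on cohomology. -/
def endH (M : FSch.ModF 𝔛 h) (q : ℕ) : A →+* AddMonoid.End (Sheaf.H.{u} (TS M) q) where
  toFun a := Sheaf.H.map (act φ a M) q
  map_one' := AddMonoidHom.ext fun x => by rw [act_one]; exact Sheaf.H.map_id_apply x
  map_mul' a b := AddMonoidHom.ext fun x => by rw [act_mul]; exact Sheaf.H.map_comp_apply _ _ x
  map_zero' := AddMonoidHom.ext fun x => by
    rw [act_zero]
    have e := Sheaf.H.map_add_apply (0 : TS M ⟶ TS M) 0 x
    rw [add_zero] at e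
    exact left_eq_add.1 e
  map_add' a b := AddMonoidHom.ext fun x => by rw [act_add]; exact Sheaf.H.map_add_apply _ _ x

/-- Cohomology as a module. -/
def HS (_φ : A →+* DerComp.GSec (𝔛.Osh h)) (q : ℕ) (M : FSch.ModF 𝔛 h) : Type u := Sheaf.H.{u} (TS M) q

instance addCommGroupHS (q : ℕ) (M : FSch.ModF 𝔛 h) : AddCommGroup (HS φ q M) :=
  inferInstanceAs (AddCommGroup (Sheaf.H.{u} (TS M) q))

instance moduleHS (q : ℕ) (M : FSch.ModF 𝔛 h) : Module A (HS φ q M) :=
  letI : Module A (Sheaf.H.{u} (TS M) q) := Module.compHom _ (endH φ M q)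
  inferInstanceAs (Module A (Sheaf.H.{u} (TS M) q))

lemma HS_smul (q : ℕ) (M : FSch.ModF 𝔛 h) (a : A) (x : HS φ q M) :
    (show Sheaf.H.{u} (TS M) q from a • x) = Sheaf.H.map (act φ a M) q x := rfl

/-- Functoriality of cohomology. -/
def HAmap (q : ℕ) {M N : FSch.ModF 𝔛 h} (g : M ⟶ N) : HS φ q M →ₗ[A] HS φ q N where
  toFun x := Sheaf.H.map ((SheafOfModules.toSheaf (ModSite.ringSh (𝔛.Osh h))).map g) q x
  map_add' := map_add (Sheaf.H.map ((SheafOfModules.toSheaf (ModSite.ringSh (𝔛.Osh h))).map g) q)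
  map_smul' a x := by
    refine (congrArg (Sheaf.H.map ((SheafOfModules.toSheaf (ModSite.ringSh (𝔛.Osh h))).map g) q) (HS_smul φ q M a x)).trans ?_
    refine (Sheaf.H.map_comp_apply _ _ _).symm.trans ?_
    rw [act_natural]
    exact Sheaf.H.map_comp_apply _ _ _

lemma HAmap_apply (q : ℕ) {M N : FSch.ModF 𝔛 h} (g : M ⟶ N) (x : HS φ q M) :
    HAmap φ q g x = Sheaf.H.map ((SheafOfModules.toSheaf (ModSite.ringSh (𝔛.Osh h))).map g) q x := rfl

/-- The cohomology functor. -/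
def HAF (q : ℕ) : FSch.ModF 𝔛 h ⥤ ModuleCat.{u} A where
  obj M := ModuleCat.of A (HS φ q M)
  map g := ModuleCat.ofHom (HAmap φ q g)
  map_id M := by
    refine ModuleCat.hom_ext (LinearMap.ext fun x => ?_)
    refine (HAmap_apply φ q (𝟙 M) x).trans ?_
    rw [CategoryTheory.Functor.map_id]
    exact Sheaf.H.map_id_apply _
  map_comp g g' := by
    refine ModuleCat.hom_ext (LinearMap.ext fun x => ?_)
    refine (HAmap_apply φ q (g ≫ g') x).trans ?_
    rw [Functor.map_comp]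
    exact Sheaf.H.map_comp_apply _ _ _

lemma toSheaf_SE {S : ShortComplex (FSch.ModF 𝔛 h)} (hS : S.ShortExact) :
    (S.map (SheafOfModules.toSheaf (ModSite.ringSh (𝔛.Osh h)))).ShortExact :=
  FCompl.toSheaf_shortExact hS

/-- The connecting map. -/
def δA (S : ShortComplex (FSch.ModF 𝔛 h)) (hS : S.ShortExact) (q : ℕ) : HS φ q S.X₃ →ₗ[A] HS φ (q + 1) S.X₁ where
  toFun x := (HEquiv (TS S.X₁) (q + 1)).symm (hδ (toSheaf_SE hS) ⊤ q (HEquiv (TS S.X₃) q x))
  map_add' x y := by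
    refine (congrArg _ ((congrArg _ (map_add (HEquiv (TS S.X₃) q) x y)).trans (map_add _ _ _))).trans ?_
    exact map_add (HEquiv (TS S.X₁) (q + 1)).symm _ _
  map_smul' a x := by
    apply (HEquiv (TS S.X₁) (q + 1)).injective
    refine ((HEquiv (TS S.X₁) (q + 1)).apply_symm_apply _).trans ?_
    refine Eq.trans ?_ (HEquiv_map (act φ a S.X₁) (q + 1) _).symm
    rw [AddEquiv.apply_symm_apply]
    refine (congrArg (hδ (toSheaf_SE hS) ⊤ q) (HEquiv_map (act φ a S.X₃) q x)).trans ?_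
    exact (hδ_naturality (toSheaf_SE hS) (toSheaf_SE hS)
      ((SheafOfModules.toSheaf (ModSite.ringSh (𝔛.Osh h))).mapShortComplex.map
        (⟨DerComp.smulEnd (φ a) S.X₁, DerComp.smulEnd (φ a) S.X₂, DerComp.smulEnd (φ a) S.X₃,
          DerComp.smulEnd_comm _ _, DerComp.smulEnd_comm _ _⟩ : S ⟶ S)) ⊤ q _).symm

lemma δA_apply (S : ShortComplex (FSch.ModF 𝔛 h)) (hS : S.ShortExact) (q : ℕ) (x : HS φ q S.X₃) :
    δA φ S hS q x = (HEquiv (TS S.X₁) (q + 1)).symm (hδ (toSheaf_SE hS) ⊤ q (HEquiv (TS S.X₃) q x)) := rfl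

lemma HAmap_add (q : ℕ) {M N : FSch.ModF 𝔛 h} (g g' : M ⟶ N) :
    HAmap φ q (g + g') = HAmap φ q g + HAmap φ q g' := by
  refine LinearMap.ext fun x => ?_
  refine (HAmap_apply φ q (g + g') x).trans ?_
  rw [Functor.map_add]
  exact Sheaf.H.map_add_apply _ _ _

lemma δA_natural (S S' : ShortComplex (FSch.ModF 𝔛 h)) (hS : S.ShortExact) (hS' : S'.ShortExact) (g : S ⟶ S') (q : ℕ)
    (x : HS φ q S.X₃) : δA φ S' hS' q (HAmap φ q g.τ₃ x) = HAmap φ (q + 1) g.τ₁ (δA φ S hS q x) := by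
  rw [δA_apply, δA_apply, HAmap_apply, HAmap_apply]
  apply (HEquiv (TS S'.X₁) (q + 1)).injective
  refine ((HEquiv (TS S'.X₁) (q + 1)).apply_symm_apply _).trans ?_
  refine Eq.trans ?_ (HEquiv_map ((SheafOfModules.toSheaf (ModSite.ringSh (𝔛.Osh h))).map g.τ₁) (q + 1) _).symm
  refine Eq.trans ?_ (congrArg (hmap ⊤ ((SheafOfModules.toSheaf (ModSite.ringSh (𝔛.Osh h))).map g.τ₁) (q + 1))
    ((HEquiv (TS S.X₁) (q + 1)).apply_symm_apply _).symm)
  refine (congrArg (hδ (toSheaf_SE hS') ⊤ q)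
    (HEquiv_map ((SheafOfModules.toSheaf (ModSite.ringSh (𝔛.Osh h))).map g.τ₃) q x)).trans ?_
  exact (hδ_naturality (toSheaf_SE hS) (toSheaf_SE hS')
    ((SheafOfModules.toSheaf (ModSite.ringSh (𝔛.Osh h))).mapShortComplex.map g) ⊤ q _).symm

lemma δA_exact (S : ShortComplex (FSch.ModF 𝔛 h)) (hS : S.ShortExact) (q : ℕ) (x : HS φ q S.X₃)
    (hx : δA φ S hS q x = 0) : ∃ y, HAmap φ q S.g y = x := by
  rw [δA_apply] at hx
  have h0 : hδ (toSheaf_SE hS) ⊤ q (HEquiv (TS S.X₃) q x) = 0 :=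
    (HEquiv (TS S.X₁) (q + 1)).symm.injective (hx.trans (map_zero (HEquiv (TS S.X₁) (q + 1)).symm).symm)
  obtain ⟨y, hy⟩ := (hδ_eq_zero_iff (toSheaf_SE hS) ⊤ q _).1 h0
  refine ⟨(HEquiv (TS S.X₂) q).symm y, ?_⟩
  rw [HAmap_apply]
  apply (HEquiv (TS S.X₃) q).injective
  refine (HEquiv_map ((SheafOfModules.toSheaf (ModSite.ringSh (𝔛.Osh h))).map S.g) q _).trans ?_
  exact (congrArg (hmap ⊤ ((SheafOfModules.toSheaf (ModSite.ringSh (𝔛.Osh h))).map S.g) q)
    ((HEquiv (TS S.X₂) q).apply_symm_apply y)).trans hy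

/-- The cohomology theory. -/
def cohTh : CohTh (FSch.ModF 𝔛 h) A where
  H := HAF φ
  additive q := Functor.Additive.mk fun {M N g g'} => ModuleCat.hom_ext (HAmap_add φ q g g')
  δ S hS q := δA φ S hS q
  natural S S' hS hS' g q x := δA_natural φ S S' hS hS' g q x
  exact S hS q x hx := δA_exact φ S hS q x hx

section Cochains

variable {ι : Type u} (U : ι → (𝔛.X 0).Opens)

/-- Scalars acting on cochains. -/
def endC (M : FSch.ModF 𝔛 h) (q : ℕ) : A →+* AddMonoid.End (CC U (TS M).obj q) where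
  toFun a := ccMap U (act φ a M).hom q
  map_one' := AddMonoidHom.ext fun x => funext fun i => by
    rw [act_one]; rfl
  map_mul' a b := AddMonoidHom.ext fun x => funext fun i => by
    rw [act_mul]; rfl
  map_zero' := AddMonoidHom.ext fun x => funext fun i => by
    rw [act_zero]; rfl
  map_add' a b := AddMonoidHom.ext fun x => funext fun i => by
    rw [act_add]; rfl

/-- Cochains as a module. -/
def CA (_φ : A →+* DerComp.GSec (𝔛.Osh h)) (U : ι → (𝔛.X 0).Opens) (q : ℕ) (M : FSch.ModF 𝔛 h) : Type u :=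
  CC U (TS M).obj q

instance addCommGroupCA (q : ℕ) (M : FSch.ModF 𝔛 h) : AddCommGroup (CA φ U q M) :=
  inferInstanceAs (AddCommGroup (CC U (TS M).obj q))

instance moduleCA (q : ℕ) (M : FSch.ModF 𝔛 h) : Module A (CA φ U q M) :=
  letI : Module A (CC U (TS M).obj q) := Module.compHom _ (endC φ U M q)
  inferInstanceAs (Module A (CC U (TS M).obj q))

lemma CA_smul (q : ℕ) (M : FSch.ModF 𝔛 h) (a : A) (z : CA φ U q M) (i : Fin (q + 1) → ι) :
    (show M.val.obj (op (inter U i)) from (show CC U (TS M).obj q from a • z) i) =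
      (φ a).1 (inter U i) • (show M.val.obj (op (inter U i)) from (show CC U (TS M).obj q from z) i) := rfl

/-- The differential. -/
def dA (q : ℕ) (M : FSch.ModF 𝔛 h) : CA φ U q M →ₗ[A] CA φ U (q + 1) M where
  toFun z := cdiff U (TS M).obj q z
  map_add' := map_add (cdiff U (TS M).obj q)
  map_smul' a z := cdiff_ccMap U (act φ a M).hom q z

lemma dA_apply (q : ℕ) (M : FSch.ModF 𝔛 h) (z : CA φ U q M) : dA φ U q M z = cdiff U (TS M).obj q z := rfl

lemma dA_dA (q : ℕ) (M : FSch.ModF 𝔛 h) (z : CA φ U q M) : dA φ U (q + 1) M (dA φ U q M z) = 0 :=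
  cdiff_cdiff _ _ _

/-- Functoriality of cochains. -/
def CAmap (q : ℕ) {M N : FSch.ModF 𝔛 h} (g : M ⟶ N) : CA φ U q M →ₗ[A] CA φ U q N where
  toFun z := ccMap U ((SheafOfModules.toSheaf (ModSite.ringSh (𝔛.Osh h))).map g).hom q z
  map_add' := map_add (ccMap U ((SheafOfModules.toSheaf (ModSite.ringSh (𝔛.Osh h))).map g).hom q)
  map_smul' a z := by
    show ccMap U ((SheafOfModules.toSheaf (ModSite.ringSh (𝔛.Osh h))).map g).hom q (ccMap U (act φ a M).hom q z) =
      ccMap U (act φ a N).hom q (ccMap U ((SheafOfModules.toSheaf (ModSite.ringSh (𝔛.Osh h))).map g).hom q z)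
    rw [ccMap_ccMap, ccMap_ccMap]
    exact congrArg (fun k : TS M ⟶ TS N => ccMap U k.hom q z) (act_natural φ a g)

lemma dA_CAmap (q : ℕ) {M N : FSch.ModF 𝔛 h} (g : M ⟶ N) (z : CA φ U q M) :
    dA φ U q N (CAmap φ U q g z) = CAmap φ U (q + 1) g (dA φ U q M z) :=
  cdiff_ccMap U ((SheafOfModules.toSheaf (ModSite.ringSh (𝔛.Osh h))).map g).hom q z

variable (hcov : ⊤ ≤ iSup U) {M N : FSch.ModF 𝔛 h} (hM : Acyclic U (TS M)) (hN : Acyclic U (TS N))

/-- Cocycles. -/
def toZc (q : ℕ) (z : LinearMap.ker (dA φ U q M)) : (cdiff U (TS M).obj q).ker :=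
  ⟨z.1, z.2⟩

lemma toZc_add (q : ℕ) (z w : LinearMap.ker (dA φ U q M)) :
    toZc φ U q (z + w) = toZc φ U q z + toZc φ U q w := Subtype.ext rfl

lemma toZc_smul (q : ℕ) (a : A) (z : LinearMap.ker (dA φ U q M)) :
    (toZc φ U q (a • z)).1 = ccMap U (act φ a M).hom q (toZc φ U q z).1 := rfl

/-- The class of a cocycle. -/
def cl0 (q : ℕ) (z : LinearMap.ker (dA φ U q M)) : HS φ q M := FExist.clH U hcov hM q (toZc φ U q z)

lemma cl0_smul (q : ℕ) (a : A) (z : LinearMap.ker (dA φ U q M)) :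
    cl0 φ U hcov hM q (a • z) = a • cl0 φ U hcov hM q z := by
  have e := FExist.clH_natural U hcov hM hM (act φ a M) q (toZc φ U q z) (toZc φ U q (a • z)) (toZc_smul φ U q a z)
  exact e.symm

lemma cl0_add (q : ℕ) (z w : LinearMap.ker (dA φ U q M)) :
    cl0 φ U hcov hM q (z + w) = cl0 φ U hcov hM q z + cl0 φ U hcov hM q w := by
  unfold cl0
  rw [toZc_add]
  exact map_add (FExist.clH U hcov hM q) _ _

/-- The class of a cocycle, linearly. -/
def clA (q : ℕ) : LinearMap.ker (dA φ U q M) →ₗ[A] HS φ q M where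
  toFun := cl0 φ U hcov hM q
  map_add' := cl0_add φ U hcov hM q
  map_smul' := cl0_smul φ U hcov hM q

lemma clA_apply (q : ℕ) (z : LinearMap.ker (dA φ U q M)) :
    clA φ U hcov hM q z = FExist.clH U hcov hM q (toZc φ U q z) := rfl

lemma clA_surjective (q : ℕ) : Function.Surjective (clA φ U hcov hM q) := fun x => by
  obtain ⟨z, hz⟩ := FExist.clH_surjective U hcov hM q x
  exact ⟨⟨z.1, z.2⟩, hz⟩

lemma clA_succ_eq_zero (q : ℕ) (z : LinearMap.ker (dA φ U (q + 1) M)) :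
    clA φ U hcov hM (q + 1) z = 0 ↔ ∃ b, dA φ U q M b = z.1 :=
  (FExist.clH_eq_zero_iff U hcov hM (q + 1) ⟨z.1, z.2⟩).trans Iff.rfl

lemma clA_zero_eq_zero (z : LinearMap.ker (dA φ U 0 M)) : clA φ U hcov hM 0 z = 0 ↔ z.1 = 0 :=
  (FExist.clH_eq_zero_iff U hcov hM 0 ⟨z.1, z.2⟩).trans AddSubgroup.mem_bot

lemma HAmap_clA (q : ℕ) (g : M ⟶ N) (z : LinearMap.ker (dA φ U q M)) (w : LinearMap.ker (dA φ U q N))
    (hw : w.1 = CAmap φ U q g z.1) :
    HAmap φ q g (clA φ U hcov hM q z) = clA φ U hcov hN q w :=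
  FExist.clH_natural U hcov hM hN _ q ⟨z.1, z.2⟩ ⟨w.1, w.2⟩ hw

end Cochains

end Groth.Agent.FProper
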