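import Groth.Agent.FProperLib.Lin
import Groth.Agent.FProperLib.Coh
import Groth.Agent.FComplLib.LevelPush
import Groth.Agent.FComplLib.LevelProper
import Groth.Agent.FComplLib.RpushLevel
import Groth.Agent.ProperFin.Main

/-!
# Finiteness of the cohomology of coherent torsion modules on a proper formal scheme
-/

set_option autoImplicit false
set_option linter.style.haveILetI false
set_option linter.unusedSectionVars false
set_option backward.isDefEq.respectTransparency false
set_option backward.isDefEq.respectTransparency.types false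
set_option maxHeartbeats 1000000

universe u

open CategoryTheory CategoryTheory.Limits AlgebraicGeometry TopologicalSpace Opposite
open Groth.Agent.CohBase

noncomputable section

namespace Groth.Agent.FProper

open Groth.Agent.FCompl

variable {A : Type u} [CommRing A] (J : Ideal A) {𝔛 : FSch.Sys.{u}} (f : 𝔛 ⟶ FSch.spf A J) (h : 𝔛.IsFormal)

instance isClosedImmersion_spfToSpec (n : ℕ) : IsClosedImmersion (FSch.spfToSpec A J n) :=
  IsClosedImmersion.spec_of_surjective (CommRingCat.ofHom (Ideal.Quotient.mk (J ^ (n + 1)))) Ideal.Quotient.mk_surjective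

/-- The levels are proper over the spectrum. -/
theorem isProper_pA (hL : 𝔛.IsLocNoethFormal) (h𝔜 : (FSch.spf A J).IsLocNoethFormal)
    (hf : FSch.IsProperHom f) (n : ℕ) : IsProper (pA J f n) := by
  haveI := hf.2
  haveI := isProper_level f hL h𝔜 n
  exact MorphismProperty.comp_mem _ _ _ ‹_› (inferInstance : IsProper (FSch.spfToSpec A J n))

/-- The space is compact. -/
theorem compactSpace_of_proper (hf : FSch.IsProperHom f) : CompactSpace (𝔛.X 0) := by
  haveI := hf.2
  haveI : CompactSpace ((FSch.spf A J).X 0) :=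
    inferInstanceAs (CompactSpace (Spec (CommRingCat.of (A ⧸ J ^ (0 + 1)))))
  exact QuasiCompact.compactSpace_of_compactSpace ((f : FSch.Hom 𝔛 (FSch.spf A J)).app 0)

section Push

variable (m : ℕ) (G : (𝔛.X m).Modules)

/-- A scalar on a direct image from a level. -/
theorem act_levelPush (a : A) :
    (pushS (𝔛.gInv h m)).map (Coh.smulAb G (Coh.toGlobal (pA J f m) a)) =
      act (ψ J f h) a ((FSch.levelMor 𝔛 h m).push.obj G) := by
  refine Sheaf.hom_ext (NatTrans.ext (funext fun W => ?_))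
  ext s
  let b : OR 𝔛 h W.unop := ψU J f h W.unop a
  refine Eq.trans ?_ (levelPush_smul m G b s).symm
  refine (Coh.smulAb_app G (Coh.toGlobal (pA J f m) a) (op (𝔛.lvU h m W.unop)) s).trans ?_
  refine congrArg (fun c : Γ(𝔛.X m, 𝔛.lvU h m W.unop) => c • (show Γ(G, 𝔛.lvU h m W.unop) from s)) ?_
  exact (pr_ψU J f h m W.unop a).symm

theorem pushAcyclic_level [Coh.IsQCoh G] :
    PushAcyclic (𝔛.gInv h m) (fun V : Opens ↥(𝔛.X 0) => IsAffineOpen (X := 𝔛.X 0) V) (Coh.toAb G) :=
  fun V hV n => affine_vanishing G (affine_lvU (h := h) hV m) n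

variable (𝔛) in
lemma affine_basis : ∀ (W : Opens ↥(𝔛.X 0)) (y : 𝔛.X 0), y ∈ W →
    ∃ V : Opens ↥(𝔛.X 0), IsAffineOpen (X := 𝔛.X 0) V ∧ y ∈ V ∧ V ≤ W := fun W y hy => by
  obtain ⟨V, hV, hyV, hVW⟩ := exists_affine_le (𝔛 := 𝔛) hy
  exact ⟨V, hV, hyV, hVW⟩

/-- Finiteness for direct images from a level. -/
theorem finite_levelPush [Coh.IsQCoh G] (q : ℕ)
    (hfin : @Module.Finite A (Coh.HH (𝔛.X m) G q) _ _ (Module.compHom (Coh.HH (𝔛.X m) G q) (Coh.toGlobal (pA J f m)))) :
    Module.Finite A (HS (ψ J f h) q ((FSch.levelMor 𝔛 h m).push.obj G)) := by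
  letI : Module A (Coh.HH (𝔛.X m) G q) := Module.compHom (Coh.HH (𝔛.X m) G q) (Coh.toGlobal (pA J f m))
  haveI : Module.Finite A (Coh.HH (𝔛.X m) G q) := hfin
  haveI : (pushS (𝔛.gInv h m)).PreservesZeroMorphisms := inferInstance
  obtain ⟨e, he⟩ := hasPushNat (𝔛.gInv h m) (affine_basis 𝔛) (pushAcyclic_level h m G) q
  let M := (FSch.levelMor 𝔛 h m).push.obj G
  let E : Coh.HH (𝔛.X m) G q ≃+ HS (ψ J f h) q M :=
    ((HHEquiv G q).trans e).trans (HEquiv (TS M) q).symm
  have hE : ∀ (a : A) x, E (a • x) = a • E x := fun a x => by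
    apply (HEquiv (TS M) q).injective
    refine ((HEquiv (TS M) q).apply_symm_apply _).trans ?_
    refine Eq.trans ?_ (HEquiv_map (act (ψ J f h) a M) q _).symm
    refine Eq.trans ?_ (congrArg (hmap ⊤ (act (ψ J f h) a M) q) ((HEquiv (TS M) q).apply_symm_apply _).symm)
    refine (congrArg e (HEquiv_map (Coh.smulAb G (Coh.toGlobal (pA J f m) a)) q x)).trans ?_
    refine (he (Coh.smulAb G (Coh.toGlobal (pA J f m) a)) (HEquiv (Coh.toAb G) q x)).trans ?_
    rw [act_levelPush]
    rfl
  let L : Coh.HH (𝔛.X m) G q ≃ₗ[A] HS (ψ J f h) q M := { E with map_smul' := hE }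
  exact Module.Finite.equiv L

end Push

variable [IsNoetherianRing A]

/-- Cohomology of a coherent module on a proper formal scheme killed by the open ideal is finite. -/
theorem finite_HS (hL : 𝔛.IsLocNoethFormal) (h𝔜 : (FSch.spf A J).IsLocNoethFormal) (hf : FSch.IsProperHom f)
    {M : FSch.ModF 𝔛 h} (hM : FSch.IsCohF 𝔛 h M) (hT : IsT M) (q : ℕ) :
    Module.Finite A (HS (ψ J f h) q M) := by
  haveI := compactSpace_of_proper J f hf
  obtain ⟨m, G, hG, ⟨e⟩⟩ := exists_level_of_coh hL hM hT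
  haveI := hG.1
  haveI := hL.2.2 m
  haveI := compactSpace_level h m
  haveI : AlgebraicGeometry.IsNoetherian (𝔛.X m) := {}
  haveI := isProper_pA J f hL h𝔜 hf m
  haveI := finite_levelPush J f h m G q (ProperFin.allFin_of_isCoh (pA J f m) G hG q)
  refine Module.Finite.of_surjective (HAmap (ψ J f h) q e.hom) fun x => ⟨HAmap (ψ J f h) q e.inv x, ?_⟩
  rw [HAmap_apply, HAmap_apply, ← Sheaf.H.map_comp_apply, ← Functor.map_comp, e.inv_hom_id,
    CategoryTheory.Functor.map_id]
  exact Sheaf.H.map_id_apply _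

end Groth.Agent.FProper
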