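import Mathlib.RingTheory.Polynomial.Basic
import Mathlib.Algebra.DirectSum.Module
import Mathlib.RingTheory.Adjoin.Basic
import Mathlib.RingTheory.Finiteness.Basic
import Mathlib.RingTheory.Noetherian.Basic
import Mathlib.Algebra.MvPolynomial.Eval

/-!
# Towers of finite modules generated in bounded degrees
-/

set_option autoImplicit false
set_option linter.unusedSectionVars false
set_option linter.style.haveILetI false

universe u

open DirectSum

namespace Groth.Agent.FProper

variable {R : Type u} [CommRing R] {σ : Type} [Finite σ] {M : ℕ → Type u} [∀ k, AddCommGroup (M k)]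
  [∀ k, Module R (M k)] (f : σ → ∀ k, M k →ₗ[R] M (k + 1))

/-- The tower is generated in bounded degrees. -/
def Gen : Prop := ∃ D, ∀ k, D ≤ k → (⊤ : Submodule R (M (k + 1))) ≤ ⨆ j, LinearMap.range (f j k)

/-- The shift on the direct sum. -/
noncomputable def shift (j : σ) : (⨁ k, M k) →ₗ[R] ⨁ k, M k :=
  DirectSum.toModule R ℕ _ fun k => (DirectSum.lof R ℕ M (k + 1)).comp (f j k)

omit [Finite σ] in
lemma shift_lof (j : σ) (k : ℕ) (x : M k) :
    shift f j (DirectSum.lof R ℕ M k x) = DirectSum.lof R ℕ M (k + 1) (f j k x) :=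
  DirectSum.toModule_lof R k x

variable [IsNoetherianRing R] [∀ k, Module.Finite R (M k)]
  (hcomm : ∀ (i j : σ) k (x : M k), f i (k + 1) (f j k x) = f j (k + 1) (f i k x)) (hgen : Gen f)

include hcomm hgen

/-- The direct sum is a Noetherian module under the shifts. -/
theorem exists_noetherian_action : ∃ (P : Type u) (_ : CommRing P) (_ : Module P (⨁ k, M k)),
    IsNoetherian P (⨁ k, M k) ∧ ∀ S : Submodule R (⨁ k, M k), (∀ j x, x ∈ S → shift f j x ∈ S) →
      ∀ (p : P) (x : ⨁ k, M k), x ∈ S → p • x ∈ S := by
  classical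
  cases nonempty_fintype σ
  have hc : ∀ i j, shift f i ∘ₗ shift f j = shift f j ∘ₗ shift f i := fun i j =>
    DirectSum.linearMap_ext R fun k => LinearMap.ext fun x => by
      simp only [LinearMap.comp_apply, shift_lof, hcomm]
  let E := Module.End R (⨁ k, M k)
  let Sa : Subalgebra R E := Algebra.adjoin R (Set.range fun j : σ => (shift f j : E))
  letI : CommRing Sa := Algebra.adjoinCommRingOfComm R (by
    rintro _ ⟨i, rfl⟩ _ ⟨j, rfl⟩
    exact hc i j)
  let φ : MvPolynomial σ R →ₐ[R] E :=
    (Sa.val).comp (MvPolynomial.aeval fun j => (⟨shift f j, Algebra.subset_adjoin ⟨j, rfl⟩⟩ : Sa))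
  letI mP : Module (MvPolynomial σ R) (⨁ k, M k) := Module.compHom _ φ.toRingHom
  have hC : ∀ (r : R) (x : ⨁ k, M k), (MvPolynomial.C r : MvPolynomial σ R) • x = r • x := fun r x => by
    show φ (MvPolynomial.C r) x = r • x
    rw [← MvPolynomial.algebraMap_eq, AlgHom.commutes]
    rfl
  have hX : ∀ (j : σ) (x : ⨁ k, M k), (MvPolynomial.X j : MvPolynomial σ R) • x = shift f j x := fun j x => by
    show φ (MvPolynomial.X j) x = _
    simp only [φ, AlgHom.comp_apply, MvPolynomial.aeval_X]
    rfl
  have hS : ∀ S : Submodule R (⨁ k, M k), (∀ j x, x ∈ S → shift f j x ∈ S) →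
      ∀ (p : MvPolynomial σ R) (x : ⨁ k, M k), x ∈ S → p • x ∈ S := by
    intro S hS p
    induction p using MvPolynomial.induction_on with
    | C r => intro x hx; rw [hC]; exact S.smul_mem r hx
    | add p q hp hq => intro x hx; rw [add_smul]; exact add_mem (hp x hx) (hq x hx)
    | mul_X p j hp =>
      intro x hx
      rw [mul_smul, hX]
      exact hp _ (hS j x hx)
  refine ⟨MvPolynomial σ R, inferInstance, mP, ?_, hS⟩
  obtain ⟨D, hD⟩ := hgen
  choose s hs using fun k => Module.Finite.fg_top (R := R) (M := M k)
  haveI : Module.Finite (MvPolynomial σ R) (⨁ k, M k) := by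
    refine ⟨⟨(Finset.range (D + 1)).biUnion fun k => (s k).image (DirectSum.lof R ℕ M k), ?_⟩⟩
    refine eq_top_iff.2 fun x _ => ?_
    set T := Submodule.span (MvPolynomial σ R)
      (((Finset.range (D + 1)).biUnion fun k => (s k).image (DirectSum.lof R ℕ M k) : Finset _) :
        Set (⨁ k, M k))
    have hTR : ∀ (r : R) (z : ⨁ k, M k), z ∈ T → r • z ∈ T := fun r z hz => by
      rw [← hC]; exact T.smul_mem _ hz
    have key : ∀ k (z : M k), DirectSum.lof R ℕ M k z ∈ T := by
      intro k
      induction k using Nat.strong_induction_on with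
      | _ k ih =>
        intro z
        by_cases hk : k ≤ D
        · have hz : z ∈ Submodule.span R ((s k : Finset (M k)) : Set (M k)) := by rw [hs]; trivial
          induction hz using Submodule.span_induction with
          | mem y hy =>
            refine Submodule.subset_span ?_
            simp only [Finset.coe_biUnion, Set.mem_iUnion, Finset.mem_coe]
            exact ⟨k, Finset.mem_range.2 (by omega), Finset.mem_image_of_mem _ hy⟩
          | zero => rw [map_zero]; exact zero_mem _
          | add a b _ _ ha hb => rw [map_add]; exact add_mem ha hb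
          | smul r a _ ha => rw [map_smul]; exact hTR r _ ha
        · obtain ⟨k', rfl⟩ := Nat.exists_eq_add_one_of_ne_zero (show k ≠ 0 by omega)
          have hz := hD k' (by omega) (show z ∈ ⊤ from trivial)
          refine Submodule.iSup_induction (motive := fun y => DirectSum.lof R ℕ M (k' + 1) y ∈ T) _ hz
            (fun j y hy => ?_) (by rw [map_zero]; exact zero_mem _) fun a b ha hb => by
              rw [map_add]; exact add_mem ha hb
          obtain ⟨w, rfl⟩ := hy
          rw [← shift_lof, ← hX]
          exact T.smul_mem _ (ih k' (by omega) w)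
    induction x using DirectSum.induction_on with
    | zero => exact zero_mem _
    | of k z => exact key k z
    | add a b ha hb => exact add_mem (ha trivial) (hb trivial)
  infer_instance

variable {S : ℕ → ∀ k, Submodule R (M k)}

/-- An increasing sequence of stable families is stationary. -/
theorem stable_stationary (hS : ∀ s j k x, x ∈ S s k → f j k x ∈ S s (k + 1)) (hmono : ∀ s k, S s k ≤ S (s + 1) k) :
    ∃ c, ∀ s, c ≤ s → ∀ k, S s k = S c k := by
  classical
  obtain ⟨P, _, _, hN, hst⟩ := exists_noetherian_action f hcomm hgen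
  let T : ℕ → Submodule R (⨁ k, M k) := fun s =>
    { carrier := {x | ∀ k, x k ∈ S s k}
      add_mem' := fun {a b} ha hb k => add_mem (ha k) (hb k)
      zero_mem' := fun k => zero_mem _
      smul_mem' := fun r a ha k => (S s k).smul_mem r (ha k) }
  have hT : ∀ s j x, x ∈ T s → shift f j x ∈ T s := by
    intro s j x hx
    have hx' : x = ∑ k ∈ DFinsupp.support x, DirectSum.lof R ℕ M k (x k) := (DirectSum.sum_support_of x).symm
    rw [hx', map_sum]
    refine sum_mem fun k _ l => ?_
    rw [shift_lof]
    by_cases hl : k + 1 = l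
    · subst hl
      rw [DirectSum.lof_eq_of, DirectSum.of_eq_same]
      exact hS s j k _ (hx k)
    · rw [DirectSum.lof_eq_of, DirectSum.of_eq_of_ne _ _ _ (Ne.symm hl)]
      exact zero_mem _
  let TP : ℕ →o Submodule P (⨁ k, M k) :=
    ⟨fun s =>
      { carrier := T s
        add_mem' := fun ha hb => add_mem ha hb
        zero_mem' := zero_mem _
        smul_mem' := fun p x hx => hst (T s) (hT s) p x hx },
      monotone_nat_of_le_succ fun s x hx k => hmono s k (hx k)⟩
  obtain ⟨c, hc⟩ := monotone_stabilizes_iff_noetherian.2 hN TP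
  refine ⟨c, fun s hs k => le_antisymm (fun y hy => ?_) ?_⟩
  · have hm : DirectSum.of M k y ∈ T s := fun l => by
      by_cases hl : k = l
      · subst hl; rw [DirectSum.of_eq_same]; exact hy
      · rw [DirectSum.of_eq_of_ne _ _ _ (Ne.symm hl)]; exact zero_mem _
    have h2 : DirectSum.of M k y ∈ TP c := by rw [hc s hs]; exact hm
    have h3 : (DirectSum.of M k y) k ∈ S c k := (h2 : DirectSum.of M k y ∈ T c) k
    rwa [DirectSum.of_eq_same] at h3
  · induction s, hs using Nat.le_induction with
    | base => exact le_rfl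
    | succ s hs ih => exact ih.trans (hmono s k)

omit S in
/-- Stable families are generated in bounded degrees. -/
theorem stable_gen (N : ∀ k, Submodule R (M k)) (hN : ∀ j k x, x ∈ N k → f j k x ∈ N (k + 1)) :
    ∃ D, ∀ k, D ≤ k → N (k + 1) ≤ ⨆ j, (N k).map (f j k) := by
  classical
  let W : ℕ → ∀ k, Submodule R (M k) := fun s => Nat.rec (N 0) (fun k Wk =>
    if k + 1 ≤ s then N (k + 1) else ⨆ j, Wk.map (f j k))
  have hWle : ∀ s k, W s k ≤ N k := by
    intro s k
    induction k with
    | zero => exact le_rfl
    | succ k ih =>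
      show (if k + 1 ≤ s then _ else _) ≤ N (k + 1)
      split_ifs
      · exact le_rfl
      · refine iSup_le fun j => Submodule.map_le_iff_le_comap.2 fun x hx => hN j k x (ih hx)
  have hWeq : ∀ s k, k ≤ s → W s k = N k := by
    intro s k hk
    cases k with
    | zero => rfl
    | succ k => exact if_pos hk
  have hWst : ∀ s j k x, x ∈ W s k → f j k x ∈ W s (k + 1) := by
    intro s j k x hx
    show f j k x ∈ (if k + 1 ≤ s then _ else _)
    split_ifs
    · exact hN j k x (hWle s k hx)
    · exact Submodule.mem_iSup_of_mem j (Submodule.mem_map_of_mem hx)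
  have hWmono : ∀ s k, W s k ≤ W (s + 1) k := by
    intro s k
    induction k with
    | zero => exact le_rfl
    | succ k ih =>
      by_cases h : k + 1 ≤ s
      · exact (hWle s (k + 1)).trans (hWeq (s + 1) (k + 1) (by omega)).ge
      · show (if k + 1 ≤ s then _ else _) ≤ (if k + 1 ≤ s + 1 then _ else _)
        rw [if_neg h]
        split_ifs
        · exact iSup_le fun j => Submodule.map_le_iff_le_comap.2 fun x hx => hN j k x (hWle s k hx)
        · exact iSup_mono fun j => Submodule.map_mono ih
  obtain ⟨c, hc⟩ := stable_stationary f hcomm hgen (S := W) hWst hWmono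
  refine ⟨c, fun k hk => ?_⟩
  rw [← hWeq (k + 1) (k + 1) le_rfl, hc (k + 1) (by omega) (k + 1)]
  show (if k + 1 ≤ c then _ else _) ≤ _
  rw [if_neg (by omega)]
  exact iSup_mono fun j => Submodule.map_mono (hWle c k)

end Groth.Agent.FProper
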