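import Groth.Agent.FComplLib.Mods
import Groth.Agent.IdealStalkLib.Comap
import Groth.Agent.S3857
import Groth.Prelude.Def_FSch4
import Groth.Prelude.Def_DerComp

/-!
# The base ring acting on a formal scheme over a formal spectrum
-/

set_option autoImplicit false
set_option linter.style.haveILetI false
set_option linter.unusedSectionVars false
set_option backward.isDefEq.respectTransparency false
set_option backward.isDefEq.respectTransparency.types false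

universe u

open CategoryTheory CategoryTheory.Limits AlgebraicGeometry TopologicalSpace Opposite

noncomputable section

namespace Groth.Agent.FProper

open Groth.Agent.FCompl

variable {A : Type u} [CommRing A] (J : Ideal A) {𝔛 : FSch.Sys.{u}} (f : 𝔛 ⟶ FSch.spf A J) (h : 𝔛.IsFormal)

/-- The maps of the levels to the spectrum. -/
def pA (n : ℕ) : 𝔛.X n ⟶ Spec (CommRingCat.of A) :=
  (f : FSch.Hom 𝔛 (FSch.spf A J)).app n ≫ FSch.spfToSpec A J n

lemma pA_comm (n : ℕ) : 𝔛.ι n ≫ pA J f (n + 1) = pA J f n := by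
  unfold pA
  rw [← Category.assoc, ← (f : FSch.Hom 𝔛 (FSch.spf A J)).comm n, Category.assoc, FSch.spfToSpec_comm]

/-- Sections over the whole spectrum acting on an open of the formal scheme. -/
def ψU (U : (𝔛.X 0).Opens) : A →+* OR 𝔛 h U :=
  (rsO 𝔛 h (U := pA J f 0 ⁻¹ᵁ ⊤) (V := U) (fun _ _ => trivial)).comp
    (((FSch.schSharp 𝔛 h (pA J f) (pA_comm J f)).hom.app (op ⊤)).hom.comp
      (Scheme.ΓSpecIso (CommRingCat.of A)).inv.hom)

lemma rsO_ψU {U V : (𝔛.X 0).Opens} (hVU : V ≤ U) (a : A) : rsO 𝔛 h hVU (ψU J f h U a) = ψU J f h V a := by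
  show ((𝔛.Osh h).obj.map _ ≫ (𝔛.Osh h).obj.map _).hom _ = _
  rw [← Functor.map_comp]
  rfl

/-- The base ring as global sections of the structure sheaf. -/
def ψ : A →+* DerComp.GSec (𝔛.Osh h) where
  toFun a := ⟨fun U => ψU J f h U a, fun _ _ g => rsO_ψU J f h (leOfHom g) a⟩
  map_one' := Subtype.ext (funext fun U => map_one (ψU J f h U))
  map_mul' a b := Subtype.ext (funext fun U => map_mul (ψU J f h U) a b)
  map_zero' := Subtype.ext (funext fun U => map_zero (ψU J f h U))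
  map_add' a b := Subtype.ext (funext fun U => map_add (ψU J f h U) a b)

lemma ψ_val (a : A) (U : (𝔛.X 0).Opens) : (ψ J f h a).1 U = ψU J f h U a := rfl

lemma lvU_le_pA (n : ℕ) (U : (𝔛.X 0).Opens) : 𝔛.lvU h n U ≤ pA J f n ⁻¹ᵁ ⊤ := fun _ _ => trivial

lemma pr_ψU (n : ℕ) (U : (𝔛.X 0).Opens) (a : A) :
    pr 𝔛 h U n (ψU J f h U a) =
      ((pA J f n).appLE ⊤ (𝔛.lvU h n U) (lvU_le_pA J f h n U)).hom ((Scheme.ΓSpecIso (CommRingCat.of A)).inv.hom a) := by
  show pr 𝔛 h U n (rsO 𝔛 h _ _) = _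
  rw [pr_rsO]
  set c := (Scheme.ΓSpecIso (CommRingCat.of A)).inv.hom a
  have e := congr($(FSch.schSharp_proj 𝔛 h (pA J f) (pA_comm J f) n).hom.app (op ⊤) c)
  rw [FSch.schLevel_app] at e
  refine (congrArg (rsL 𝔛 h _ n) e).trans ?_
  exact congr($(Scheme.Hom.appLE_map (pA J f n) _ _) c)

/-- The kernel of the first transition is generated by the ideal. -/
theorem ker_tr_zero_le (hf : FSch.IsAdicHom f) {U : (𝔛.X 0).Opens} (hU : IsAffineOpen U) :
    RingHom.ker (tr 𝔛 h U 0) ≤ (J.map (ψU J f h U)).map (pr 𝔛 h U 1) := by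
  haveI := (h 0).1
  let φ : CommRingCat.of (A ⧸ J ^ (1 + 1)) ⟶ CommRingCat.of (A ⧸ J ^ (0 + 1)) :=
    CommRingCat.ofHom (Ideal.Quotient.factor (Ideal.pow_le_pow_right (show 0 + 1 ≤ 1 + 1 by omega)))
  haveI : IsClosedImmersion (Spec.map φ) :=
    IsClosedImmersion.spec_of_surjective φ
      (Ideal.Quotient.factor_surjective (Ideal.pow_le_pow_right (show 0 + 1 ≤ 1 + 1 by omega)))
  haveI : IsClosedImmersion ((FSch.spf A J).ι 0) := inferInstanceAs (IsClosedImmersion (Spec.map φ))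
  obtain ⟨-, hk⟩ := S3857.ker_of_isPullback (hf 0)
  let g := (f : FSch.Hom 𝔛 (FSch.spf A J)).app 1
  let V := 𝔛.lvU h 1 U
  have hV : IsAffineOpen V := affine_lvU hU 1
  haveI : IsAffine ((FSch.spf A J).X 1) := inferInstanceAs (IsAffine (Spec (CommRingCat.of (A ⧸ J ^ (1 + 1)))))
  have hTop : IsAffineOpen (⊤ : ((FSch.spf A J).X 1).Opens) := isAffineOpen_top _
  have e0 : (𝔛.ι 0).ker.ideal ⟨V, hV⟩ =
      (((FSch.spf A J).ι 0).ker.ideal ⟨⊤, hTop⟩).map (g.appLE ⊤ V (fun _ _ => trivial)).hom := by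
    rw [hk]
    exact IdealStalkLib.comap_ideal _ g hTop hV (fun _ _ => trivial)
  have e1 : RingHom.ker (tr 𝔛 h U 0) = (𝔛.ι 0).ker.ideal ⟨V, hV⟩ := by
    rw [tr, ker_appLE _ _ _ _ (𝔛.lvU_succ h 0 U), Scheme.Hom.ker_apply]
  rw [e1, e0, Ideal.map_le_iff_le_comap]
  intro r hr
  rw [Scheme.Hom.ker_apply] at hr
  have hr0 : ((FSch.spf A J).ι 0).appTop.hom r = 0 := hr
  obtain ⟨a, ha⟩ := Ideal.Quotient.mk_surjective ((Scheme.ΓSpecIso (CommRingCat.of (A ⧸ J ^ (1 + 1)))).hom r)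
  have haJ : a ∈ J := by
    have e2 := congr($(Scheme.ΓSpecIso_naturality φ) r)
    have e3 : φ.hom ((Scheme.ΓSpecIso (CommRingCat.of (A ⧸ J ^ (1 + 1)))).hom r) = 0 := by
      refine e2.symm.trans ?_
      show (Scheme.ΓSpecIso _).hom (((FSch.spf A J).ι 0).appTop.hom r) = 0
      rw [hr0]
      exact map_zero _
    rw [← ha] at e3
    have h0 : Ideal.Quotient.mk (J ^ (0 + 1)) a = 0 := e3
    rw [Ideal.Quotient.eq_zero_iff_mem, zero_add, pow_one] at h0
    exact h0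
  show (g.appLE ⊤ V (fun _ _ => trivial)).hom r ∈ (J.map (ψU J f h U)).map (pr 𝔛 h U 1)
  have e4 : (g.appLE ⊤ V (fun _ _ => trivial)).hom r = pr 𝔛 h U 1 (ψU J f h U a) := by
    rw [pr_ψU]
    have hr1 : r = ((FSch.spfToSpec A J 1).appTop).hom ((Scheme.ΓSpecIso (CommRingCat.of A)).inv.hom a) := by
      have e5 := congr($(Scheme.ΓSpecIso_inv_naturality (CommRingCat.ofHom (Ideal.Quotient.mk (J ^ (1 + 1))))) a)
      refine Eq.trans ?_ e5
      show r = (Scheme.ΓSpecIso (CommRingCat.of (A ⧸ J ^ (1 + 1)))).inv (Ideal.Quotient.mk (J ^ (1 + 1)) a)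
      rw [ha]
      exact (congr($((Scheme.ΓSpecIso (CommRingCat.of (A ⧸ J ^ (1 + 1)))).hom_inv_id) r)).symm
    rw [hr1]
    exact congr($(Scheme.Hom.appLE_comp_appLE g (FSch.spfToSpec A J 1) ⊤ ⊤ V (fun _ _ => trivial)
      (fun _ _ => trivial)) ((Scheme.ΓSpecIso (CommRingCat.of A)).inv a))
  rw [e4]
  exact Ideal.mem_map_of_mem _ (Ideal.mem_map_of_mem _ haJ)

theorem map_ψU_le (U : (𝔛.X 0).Opens) : J.map (ψU J f h U) ≤ II 𝔛 h U := by
  rw [Ideal.map_le_iff_le_comap]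
  intro a ha
  show pr 𝔛 h U 0 (ψU J f h U a) = 0
  rw [pr_ψU]
  have e := congr($(Scheme.Hom.appLE_comp_appLE ((f : FSch.Hom 𝔛 (FSch.spf A J)).app 0) (FSch.spfToSpec A J 0) ⊤ ⊤
    (𝔛.lvU h 0 U) (fun _ _ => trivial) (fun _ _ => trivial)) ((Scheme.ΓSpecIso (CommRingCat.of A)).inv a))
  refine e.symm.trans ?_
  have h0 : (CommRingCat.ofHom (Ideal.Quotient.mk (J ^ (0 + 1)))).hom a = 0 := by
    show Ideal.Quotient.mk (J ^ (0 + 1)) a = 0
    rw [Ideal.Quotient.eq_zero_iff_mem, zero_add, pow_one]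
    exact ha
  have e5 := congr($(Scheme.ΓSpecIso_inv_naturality (CommRingCat.ofHom (Ideal.Quotient.mk (J ^ (0 + 1))))) a)
  refine (congrArg (((f : FSch.Hom 𝔛 (FSch.spf A J)).app 0).appLE ⊤ (𝔛.lvU h 0 U) (fun _ _ => trivial)).hom
    (Eq.trans ?_ e5.symm)).trans ?_
  · show ((FSch.spfToSpec A J 0).appLE ⊤ ((FSch.spfToSpec A J 0) ⁻¹ᵁ ⊤) le_rfl).hom _ = _
    rw [← Scheme.Hom.app_eq_appLE]
    rfl
  · show (((f : FSch.Hom 𝔛 (FSch.spf A J)).app 0).appLE ⊤ (𝔛.lvU h 0 U) _).hom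
      ((Scheme.ΓSpecIso (CommRingCat.of (A ⧸ J ^ (0 + 1)))).inv
        ((CommRingCat.ofHom (Ideal.Quotient.mk (J ^ (0 + 1)))).hom a)) = 0
    rw [h0]
    exact (congrArg _ (map_zero _)).trans (map_zero _)

/-- The open ideal is generated by the ideal of definition of the base. -/
theorem II_eq (hL : 𝔛.IsLocNoethFormal) (hf : FSch.IsAdicHom f) {U : (𝔛.X 0).Opens} (hU : IsAffineOpen U) :
    II 𝔛 h U = J.map (ψU J f h U) := by
  haveI := noetherian (h := h) hL hU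
  refine le_antisymm ?_ (map_ψU_le J f h U)
  refine Submodule.le_of_le_smul_of_le_jacobson_bot (IsNoetherian.noetherian _) (II_le_jacobson (h := h) hL hU) ?_
  rw [smul_eq_mul, ← pow_two, ← ker_pr hL hU 1]
  intro x hx
  have h1 : pr 𝔛 h U 1 x ∈ RingHom.ker (tr 𝔛 h U 0) := by
    rw [RingHom.mem_ker, tr_pr]; exact hx
  obtain ⟨z, hz, hzx⟩ := (Ideal.mem_map_iff_of_surjective _ (pr_surjective hL hU 1)).1
    (ker_tr_zero_le J f h hf hU h1)
  rw [← add_sub_cancel z x]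
  exact add_mem (Ideal.mem_sup_left hz) (Ideal.mem_sup_right (by rw [RingHom.mem_ker, map_sub, hzx, sub_self]))

/-- Powers of the open ideal. -/
theorem II_pow_eq (hL : 𝔛.IsLocNoethFormal) (hf : FSch.IsAdicHom f) {U : (𝔛.X 0).Opens} (hU : IsAffineOpen U)
    (n : ℕ) : II 𝔛 h U ^ n = (J ^ n).map (ψU J f h U) := by
  rw [II_eq J f h hL hf hU, Ideal.map_pow]

end Groth.Agent.FProper
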