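import Groth.Agent.FProperLib.Fil

/-!
# The operators of the ideal of definition on the graded pieces
-/

set_option autoImplicit false
set_option linter.style.haveILetI false
set_option linter.unusedSectionVars false
set_option backward.isDefEq.respectTransparency false
set_option backward.isDefEq.respectTransparency.types false
set_option maxHeartbeats 1000000

universe u

open CategoryTheory CategoryTheory.Limits AlgebraicGeometry TopologicalSpace Opposite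
open Groth.Agent.CohBase

noncomputable section

namespace Groth.Agent.FProper

open Groth.Agent.FCompl

/-- Consecutive shifts of commuting operators commute on quotients. -/
theorem descend_comm {𝒜 : Type*} [Category 𝒜] {F₀ F₁ F₂ G₀ G₁ G₂ : 𝒜} (π₀ : F₀ ⟶ G₀) [Epi π₀] (π₁ : F₁ ⟶ G₁)
    (π₂ : F₂ ⟶ G₂) (a b : F₀ ⟶ F₁) (a' b' : F₁ ⟶ F₂) (ga gb : G₀ ⟶ G₁) (ga' gb' : G₁ ⟶ G₂)
    (ha : π₀ ≫ ga = a ≫ π₁) (hb : π₀ ≫ gb = b ≫ π₁) (ha' : π₁ ≫ ga' = a' ≫ π₂) (hb' : π₁ ≫ gb' = b' ≫ π₂)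
    (hc : a ≫ b' = b ≫ a') : ga ≫ gb' = gb ≫ ga' := by
  rw [← cancel_epi π₀, ← Category.assoc, ha, Category.assoc, hb', ← Category.assoc, hc, ← Category.assoc π₀, hb,
    Category.assoc b π₁, ha', ← Category.assoc b]

variable {A : Type u} [CommRing A] (J : Ideal A) {𝔛 : FSch.Sys.{u}} (f : 𝔛 ⟶ FSch.spf A J) {h : 𝔛.IsFormal}
  (hL : 𝔛.IsLocNoethFormal) (hf : FSch.IsAdicHom f) {𝔉 : FSch.ModF 𝔛 h} (h𝔉 : FSch.IsCohF 𝔛 h 𝔉)

include hL hf h𝔉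

lemma smul_mem_succ {U : (𝔛.X 0).Opens} (hU : IsAffineOpen U) {k : ℕ} {a : A} (ha : a ∈ J) {m : 𝔉.val.obj (op U)}
    (hm : ((prj' 𝔉 k).val.app (op U)).hom m = 0) :
    ((prj' 𝔉 (k + 1)).val.app (op U)).hom (ψU J f h U a • m : 𝔉.val.obj (op U)) = 0 := by
  rw [prj'_eq_zero_iff hL h𝔉 hU] at hm ⊢
  rw [pow_succ', Submodule.mul_smul]
  refine Submodule.smul_mem_smul ?_ hm
  rw [II_eq J f h hL hf hU]
  exact Ideal.mem_map_of_mem _ ha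

lemma flι_smul_prj' (k : ℕ) {a : A} (ha : a ∈ J) :
    (flι 𝔉 k ≫ DerComp.smulEnd (ψ J f h a) 𝔉) ≫ prj' 𝔉 (k + 1) = 0 :=
  hom_eq_zero_of_affine _ fun U hU s => smul_mem_succ J f hL hf h𝔉 hU ha
    (congrArg (fun g : Fl 𝔉 k ⟶ lvl 𝔉 (k - 1) => (g.val.app (op U)).hom s) (flι_prj' 𝔉 k))

/-- Multiplication by an element of the ideal. -/
def mFl (k : ℕ) {a : A} (ha : a ∈ J) : Fl 𝔉 k ⟶ Fl 𝔉 (k + 1) :=
  kernel.lift _ (flι 𝔉 k ≫ DerComp.smulEnd (ψ J f h a) 𝔉) (flι_smul_prj' J f hL hf h𝔉 k ha)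

lemma mFl_flι (k : ℕ) {a : A} (ha : a ∈ J) :
    mFl J f hL hf h𝔉 k ha ≫ flι 𝔉 (k + 1) = flι 𝔉 k ≫ DerComp.smulEnd (ψ J f h a) 𝔉 :=
  kernel.lift_ι _ _ _

lemma mFl_incl (k : ℕ) {a : A} (ha : a ∈ J) :
    mFl J f hL hf h𝔉 k ha ≫ incl 𝔉 k = DerComp.smulEnd (ψ J f h a) (Fl 𝔉 k) := by
  rw [← cancel_mono (flι 𝔉 k), Category.assoc, incl_flι, mFl_flι, DerComp.smulEnd_comm]

lemma incl_mFl (k : ℕ) {a : A} (ha : a ∈ J) :
    incl 𝔉 k ≫ mFl J f hL hf h𝔉 k ha = mFl J f hL hf h𝔉 (k + 1) ha ≫ incl 𝔉 (k + 1) := by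
  rw [← cancel_mono (flι 𝔉 (k + 1)), Category.assoc, mFl_flι, ← Category.assoc, incl_flι, Category.assoc, incl_flι,
    mFl_flι]

lemma mFl_comm (k : ℕ) {a b : A} (ha : a ∈ J) (hb : b ∈ J) :
    mFl J f hL hf h𝔉 k ha ≫ mFl J f hL hf h𝔉 (k + 1) hb =
      mFl J f hL hf h𝔉 k hb ≫ mFl J f hL hf h𝔉 (k + 1) ha := by
  rw [← cancel_mono (flι 𝔉 (k + 1 + 1)), Category.assoc, Category.assoc, mFl_flι, mFl_flι, ← Category.assoc,
    ← Category.assoc, mFl_flι, mFl_flι, Category.assoc, Category.assoc, DerComp.smulEnd_comp, DerComp.smulEnd_comp,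
    mul_comm]

/-- The operator on graded pieces. -/
def mGr (k : ℕ) {a : A} (ha : a ∈ J) : Gr 𝔉 k ⟶ Gr 𝔉 (k + 1) :=
  cokernel.map (incl 𝔉 k) (incl 𝔉 (k + 1)) (mFl J f hL hf h𝔉 (k + 1) ha) (mFl J f hL hf h𝔉 k ha)
    (incl_mFl J f hL hf h𝔉 k ha)

lemma grπ_mGr (k : ℕ) {a : A} (ha : a ∈ J) :
    grπ 𝔉 k ≫ mGr J f hL hf h𝔉 k ha = mFl J f hL hf h𝔉 k ha ≫ grπ 𝔉 (k + 1) :=
  cokernel.π_desc _ _ _

lemma killed_Gr (k : ℕ) : Killed J f h (Gr 𝔉 k) := by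
  refine ⟨coh_Gr hL h𝔉 k, fun a ha => ?_⟩
  haveI : Epi (grπ 𝔉 k) := inferInstanceAs (Epi (cokernel.π _))
  rw [← cancel_epi (grπ 𝔉 k), comp_zero, ← DerComp.smulEnd_comm, ← mFl_incl J f hL hf h𝔉 k ha, Category.assoc,
    show incl 𝔉 k ≫ grπ 𝔉 k = 0 from cokernel.condition _, comp_zero]

variable {σ : Type} (a : σ → A) (ha : ∀ j, a j ∈ J)

/-- The tower of graded pieces. -/
def grTower : Tower (FSch.ModF 𝔛 h) σ where
  N := Gr 𝔉
  m j k := mGr J f hL hf h𝔉 k (ha j)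
  comm i j k := by
    haveI : Epi (grπ 𝔉 k) := inferInstanceAs (Epi (cokernel.π _))
    exact descend_comm (grπ 𝔉 k) (grπ 𝔉 (k + 1)) (grπ 𝔉 (k + 1 + 1)) _ _ _ _ _ _ _ _
      (grπ_mGr J f hL hf h𝔉 k (ha j)) (grπ_mGr J f hL hf h𝔉 k (ha i))
      (grπ_mGr J f hL hf h𝔉 (k + 1) (ha j)) (grπ_mGr J f hL hf h𝔉 (k + 1) (ha i))
      (mFl_comm J f hL hf h𝔉 k (ha j) (ha i))

lemma mem_iSup_mFl (hspan : Ideal.span (Set.range a) = J) {U : (𝔛.X 0).Opens} (hU : IsAffineOpen U) (k : ℕ)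
    {m : 𝔉.val.obj (op U)} (hm : ((prj' 𝔉 (k + 1)).val.app (op U)).hom m = 0) :
    m ∈ ⨆ j, LinearMap.range
      ((ΓF h U).map (mFl J f hL hf h𝔉 k (ha j) ≫ flι 𝔉 (k + 1))).hom := by
  classical
  rw [prj'_eq_zero_iff hL h𝔉 hU, pow_succ', Submodule.mul_smul] at hm
  refine Submodule.smul_induction_on hm (fun r hr v hv => ?_) fun x y hx hy => add_mem hx hy
  rw [II_eq J f h hL hf hU] at hr
  replace hr : r ∈ Ideal.span (ψU J f h U '' Set.range a) := by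
    rw [← Ideal.map_span]
    exact (congrArg (Ideal.map (ψU J f h U)) hspan).symm ▸ hr
  induction hr using Submodule.span_induction generalizing v with
  | mem z hz =>
    obtain ⟨_, ⟨j, rfl⟩, rfl⟩ := hz
    obtain ⟨y, rfl⟩ := exists_flι_eq hL h𝔉 k ((prj'_eq_zero_iff hL h𝔉 hU k v).2 hv)
    refine Submodule.mem_iSup_of_mem j ⟨y, ?_⟩
    rw [mFl_flι]
    rfl
  | zero => rw [zero_smul]; exact zero_mem _
  | add x y _ _ hx hy => rw [add_smul]; exact add_mem (hx v hv) (hy v hv)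
  | smul r x _ hx => rw [smul_eq_mul, mul_smul]; exact Submodule.smul_mem _ r (hx v hv)

/-- The graded pieces are generated in bounded degrees on affine opens. -/
theorem gen_ΓF (hspan : Ideal.span (Set.range a) = J) {U : (𝔛.X 0).Opens} (hU : IsAffineOpen U) :
    Gen (M := fun k => (ΓF h U).obj ((grTower J f hL hf h𝔉 a ha).N k))
      (fun j k => ((ΓF h U).map ((grTower J f hL hf h𝔉 a ha).m j k)).hom) := by
  refine ⟨0, fun k _ x _ => ?_⟩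
  obtain ⟨y, rfl⟩ := surjective_of_shortExact hL (grSeq_shortExact 𝔉 (k + 1)) (coh_Fl hL h𝔉 (k + 1 + 1)) hU x
  let y' : (ΓF h U).obj (Fl 𝔉 (k + 1)) := y
  have hmem := mem_iSup_mFl J f hL hf h𝔉 a ha hspan hU k (m := ((flι 𝔉 (k + 1)).val.app (op U)).hom y')
    (congrArg (fun g : Fl 𝔉 (k + 1) ⟶ lvl 𝔉 k => (g.val.app (op U)).hom y') (flι_prj' 𝔉 (k + 1)))
  obtain ⟨z, hz, hzy⟩ : ∃ z ∈ ⨆ j, LinearMap.range ((ΓF h U).map (mFl J f hL hf h𝔉 k (ha j))).hom,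
      ((flι 𝔉 (k + 1)).val.app (op U)).hom z = ((flι 𝔉 (k + 1)).val.app (op U)).hom y' := by
    refine Submodule.iSup_induction (motive := fun w => ∃ z ∈ ⨆ j, LinearMap.range ((ΓF h U).map (mFl J f hL hf h𝔉 k (ha j))).hom,
      ((flι 𝔉 (k + 1)).val.app (op U)).hom z = w) _ hmem (fun j w hw => ?_) ⟨0, zero_mem _, map_zero _⟩ ?_
    · obtain ⟨v, rfl⟩ := hw
      exact ⟨_, Submodule.mem_iSup_of_mem j ⟨v, rfl⟩, rfl⟩
    · rintro w w' ⟨z, hz, rfl⟩ ⟨z', hz', rfl⟩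
      exact ⟨z + z', add_mem hz hz', map_add _ _ _⟩
  obtain rfl : z = y' := FPLocal.app_injective_of_mono (flι 𝔉 (k + 1)) U hzy
  refine Submodule.iSup_induction (motive := fun w => ((grπ 𝔉 (k + 1)).val.app (op U)).hom w ∈
    ⨆ j, LinearMap.range ((ΓF h U).map (mGr J f hL hf h𝔉 k (ha j))).hom) _ hz (fun j w hw => ?_)
    (by rw [map_zero]; exact zero_mem _) fun v w hv hw => by rw [map_add]; exact add_mem hv hw
  obtain ⟨v, rfl⟩ := hw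
  exact Submodule.mem_iSup_of_mem j ⟨((grπ 𝔉 k).val.app (op U)).hom v,
    congrArg (fun g : Fl 𝔉 k ⟶ Gr 𝔉 (k + 1) => (g.val.app (op U)).hom v) (grπ_mGr J f hL hf h𝔉 k (ha j))⟩

end Groth.Agent.FProper
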